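import Mathlib

/-!
Transitive groups with a regular dihedral subgroup, read inside the dihedral group:
the point stabiliser gives a group of permutations of the dihedral group, and its invariant
functions form a convolution algebra.
-/

set_option autoImplicit false

namespace H88.Dih

open DihedralGroup
open scoped Pointwise

/-- The data coming from a point stabiliser of a primitive group with regular dihedral subgroup. -/
structure Sys (m : ℕ) where
  /-- The stabiliser, acting on the regular subgroup. -/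
  act : Subgroup (Equiv.Perm (DihedralGroup m))
  fix : ∀ σ ∈ act, σ 1 = 1
  shift : ∀ σ ∈ act, ∀ x, ∃ τ ∈ act, ∀ z, σ (x * z) = σ x * τ z
  prim : ∀ H : Subgroup (DihedralGroup m), (∀ σ ∈ act, ∀ x ∈ H, σ x ∈ H) → H = ⊥ ∨ H = ⊤

namespace Sys

variable {m : ℕ} (S : Sys m) {α β : Type*}

/-- A function on the dihedral group is invariant when it is constant on the orbits. -/
def Inv (F : DihedralGroup m → α) : Prop := ∀ σ ∈ S.act, ∀ x, F (σ x) = F x

variable {S}

theorem Inv.comp {F : DihedralGroup m → α} (hF : S.Inv F) (g : α → β) : S.Inv fun x => g (F x) :=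
  fun σ hσ x => congrArg g (hF σ hσ x)

theorem Inv.comp₂ {γ : Type*} {F : DihedralGroup m → α} {F' : DihedralGroup m → β} (hF : S.Inv F)
    (hF' : S.Inv F') (g : α → β → γ) : S.Inv fun x => g (F x) (F' x) :=
  fun σ hσ x => congrArg₂ g (hF σ hσ x) (hF' σ hσ x)

theorem inv_const (c : α) : S.Inv fun _ : DihedralGroup m => c := fun _ _ _ => rfl

theorem inv_delta (c d : α) : S.Inv fun x : DihedralGroup m => if x = 1 then c else d := by
  intro σ hσ x
  have : σ x = 1 ↔ x = 1 := by
    conv_lhs => rw [← S.fix σ hσ]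
    exact σ.injective.eq_iff
  simp only [this]

/-- The orbit of an element. -/
theorem inv_orbit (x : DihedralGroup m) : S.Inv fun y => ∃ σ ∈ S.act, σ x = y := by
  intro τ hτ y
  refine propext ⟨?_, ?_⟩
  · rintro ⟨σ, hσ, h⟩
    exact ⟨τ⁻¹ * σ, mul_mem (inv_mem hτ) hσ, by rw [Equiv.Perm.mul_apply, h]; simp⟩
  · rintro ⟨σ, hσ, h⟩
    exact ⟨τ * σ, mul_mem hτ hσ, by rw [Equiv.Perm.mul_apply, h]⟩

/-- Convolution of invariant functions. -/
theorem Inv.conv [NeZero m] {R : Type*} [CommSemiring R] {F F' : DihedralGroup m → R} (hF : S.Inv F)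
    (hF' : S.Inv F') : S.Inv fun x => ∑ z, F z * F' (z⁻¹ * x) := by
  intro σ hσ x
  refine (Fintype.sum_equiv σ _ _ fun z => ?_).symm
  obtain ⟨τ, hτ, hs⟩ := S.shift σ hσ z
  have h := hs (z⁻¹ * x)
  rw [mul_inv_cancel_left] at h
  rw [h, inv_mul_cancel_left, hF' τ hτ, hF σ hσ]

/-- The transpose. -/
theorem Inv.inv {F : DihedralGroup m → α} (hF : S.Inv F) : S.Inv fun x => F x⁻¹ := by
  intro σ hσ x
  obtain ⟨τ, hτ, hs⟩ := S.shift σ hσ x
  have h := hs x⁻¹
  rw [mul_inv_cancel, S.fix σ hσ] at h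
  show F (σ x)⁻¹ = F x⁻¹
  rw [inv_eq_of_mul_eq_one_right h.symm, hF τ hτ]

/-- An invariant set generates an invariant subgroup. -/
theorem invariant_closure {p : DihedralGroup m → Prop} (hp : S.Inv p) :
    ∀ σ ∈ S.act, ∀ x ∈ Subgroup.closure {x | p x}, σ x ∈ Subgroup.closure {x | p x} := by
  intro σ hσ x hx
  induction hx using Subgroup.closure_induction_right with
  | one => rw [S.fix σ hσ]; exact one_mem _
  | mul_right x _ u hu ih =>
    obtain ⟨τ, hτ, hs⟩ := S.shift σ hσ x
    rw [hs u]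
    exact mul_mem ih (Subgroup.subset_closure (show p (τ u) from (hp τ hτ u).symm ▸ hu))
  | mul_inv_cancel x _ u hu ih =>
    obtain ⟨τ, hτ, hs⟩ := S.shift σ hσ (x * u⁻¹)
    have h := hs u
    rw [inv_mul_cancel_right] at h
    rw [show σ (x * u⁻¹) = σ x * (τ u)⁻¹ by rw [h, mul_inv_cancel_right]]
    exact mul_mem ih (inv_mem (Subgroup.subset_closure (show p (τ u) from (hp τ hτ u).symm ▸ hu)))

/-- An invariant set inside a subgroup other than the whole group is inside `{1}`. -/
theorem eq_one_of_le {p : DihedralGroup m → Prop} (hp : S.Inv p) {H : Subgroup (DihedralGroup m)}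
    (hH : H ≠ ⊤) (h : ∀ x, p x → x ∈ H) (x : DihedralGroup m) (hx : p x) : x = 1 := by
  rcases S.prim _ (invariant_closure hp) with h' | h'
  · exact Subgroup.mem_bot.1 (h' ▸ Subgroup.subset_closure hx)
  · exact absurd (top_le_iff.1 (h' ▸ (Subgroup.closure_le H).2 h)) hH

/-- An invariant function fixed by a nontrivial left translation is constant. -/
theorem Inv.const_of_translate [Finite (DihedralGroup m)] {F : DihedralGroup m → α} (hF : S.Inv F)
    {d : DihedralGroup m} (hd : d ≠ 1) (h : ∀ x, F (d * x) = F x) (x y : DihedralGroup m) :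
    F x = F y := by
  let L : Subgroup (DihedralGroup m) :=
    { carrier := {d | ∀ x, F (d * x) = F x}
      one_mem' := fun x => by rw [one_mul]
      mul_mem' := fun {a b} ha hb x => by rw [mul_assoc, ha, hb]
      inv_mem' := fun {a} ha x => by
        have := ha (a⁻¹ * x)
        rw [mul_inv_cancel_left] at this
        exact this.symm }
  have hL : ∀ σ ∈ S.act, ∀ e ∈ L, σ e ∈ L := by
    intro σ hσ e he z
    obtain ⟨τ, hτ, hs⟩ := S.shift σ hσ e
    obtain ⟨w, rfl⟩ := τ.surjective z
    rw [← hs w, hF σ hσ, he w, hF τ hτ]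
  rcases S.prim L hL with h' | h'
  · exact absurd (Subgroup.mem_bot.1 (h' ▸ (h : d ∈ L))) hd
  · have h1 : ∀ z, F z = F 1 := fun z => by
      have := (show z ∈ L from h' ▸ Subgroup.mem_top z) 1
      rwa [mul_one] at this
    rw [h1 x, h1 y]

end Sys

section FromAction

variable {G Ω : Type*} [Group G] [MulAction G Ω] {m : ℕ}

/-- The system attached to a primitive group with a regular dihedral subgroup. -/
theorem exists_sys [MulAction.IsPreprimitive G Ω] [Nontrivial Ω] (e : DihedralGroup m →* G) (a : Ω)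
    (hb : Function.Bijective fun x => e x • a) :
    ∃ S : Sys m, (∀ x y, x ≠ 1 → y ≠ 1 → ∃ σ ∈ S.act, σ x = y) →
      MulAction.IsMultiplyPretransitive G Ω 2 := by
  let pt : DihedralGroup m ≃ Ω := Equiv.ofBijective _ hb
  have hpt : ∀ x, pt x = e x • a := fun x => rfl
  have hpt1 : pt.symm a = 1 := by
    rw [Equiv.symm_apply_eq, hpt, map_one, one_smul]
  let φ : G →* Equiv.Perm (DihedralGroup m) :=
    { toFun := fun g => pt.trans ((MulAction.toPerm g).trans pt.symm)
      map_one' := by ext x; simp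
      map_mul' := fun g h => by ext x; simp [mul_smul] }
  have hφ : ∀ g x, φ g x = pt.symm (g • pt x) := fun g x => rfl
  refine ⟨{ act := (MulAction.stabilizer G a).map φ, fix := ?_, shift := ?_, prim := ?_ }, ?_⟩
  · rintro _ ⟨g, hg, rfl⟩
    rw [hφ, hpt, map_one, one_smul, MulAction.mem_stabilizer_iff.1 hg, hpt1]
  · rintro _ ⟨g, hg, rfl⟩ x
    refine ⟨φ ((e (φ g x))⁻¹ * g * e x), ⟨_, ?_, rfl⟩, fun z => ?_⟩
    · rw [SetLike.mem_coe, MulAction.mem_stabilizer_iff, mul_smul, mul_smul, inv_smul_eq_iff,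
        ← hpt, ← hpt, hφ, Equiv.apply_symm_apply]
    · have h1 : pt (φ g (x * z)) = g • e x • pt z := by
        rw [hφ, Equiv.apply_symm_apply, hpt, hpt, map_mul, mul_smul]
      have h2 : ∀ u v, pt (u * v) = e u • pt v := fun u v => by rw [hpt, hpt, map_mul, mul_smul]
      refine pt.injective ?_
      rw [h1, h2, hφ ((e (φ g x))⁻¹ * g * e x) z, Equiv.apply_symm_apply, mul_smul, mul_smul,
        smul_inv_smul]
  · intro H hH
    by_cases hbot : H = ⊥
    · exact Or.inl hbot
    right
    let B : Set Ω := pt '' (H : Set (DihedralGroup m))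
    let U : Subgroup G := MulAction.stabilizer G B
    have hstab : MulAction.stabilizer G a ≤ U := by
      have h1 : ∀ g ∈ MulAction.stabilizer G a, ∀ x ∈ B, g • x ∈ B := by
        rintro g hg _ ⟨y, hy, rfl⟩
        exact ⟨φ g y, hH _ ⟨g, hg, rfl⟩ y hy, by rw [hφ, Equiv.apply_symm_apply]⟩
      intro g hg
      rw [MulAction.mem_stabilizer_iff]
      ext x
      rw [Set.mem_smul_set_iff_inv_smul_mem]
      exact ⟨fun h => by simpa using h1 g hg _ h, h1 g⁻¹ (inv_mem hg) x⟩
    have hU : ∀ x ∈ H, e x ∈ U := by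
      intro x hx
      rw [MulAction.mem_stabilizer_iff]
      ext z
      obtain ⟨y, rfl⟩ := pt.surjective z
      rw [Set.mem_smul_set_iff_inv_smul_mem,
        show (e x)⁻¹ • pt y = pt (x⁻¹ * y) by rw [hpt, hpt, map_mul, map_inv, mul_smul],
        pt.injective.mem_set_image, pt.injective.mem_set_image]
      exact H.mul_mem_cancel_left (H.inv_mem hx)
    obtain ⟨d, hd, hd1⟩ := H.ne_bot_iff_exists_ne_one.1 hbot |> fun ⟨⟨d, hd⟩, h⟩ =>
      (⟨d, hd, fun he => h (Subtype.ext he)⟩ : ∃ d ∈ H, d ≠ 1)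
    have hUtop : U = ⊤ := by
      refine (MulAction.IsPreprimitive.isCoatom_stabilizer_of_isPreprimitive G a).2 U
        (lt_of_le_of_ne hstab fun he => hd1 ?_)
      have h2 : e d • a = a := MulAction.mem_stabilizer_iff.1 (he.ge (hU d hd))
      exact hb.1 (show e d • a = e 1 • a by rw [h2, map_one, one_smul])
    rw [eq_top_iff]
    intro y _
    have hy : e y ∈ U := hUtop ▸ Subgroup.mem_top _
    have h3 : pt y ∈ B := by
      have haB : a ∈ B := ⟨1, H.one_mem, by rw [hpt, map_one, one_smul]⟩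
      have := (MulAction.mem_stabilizer_iff.1 hy) ▸ Set.smul_mem_smul_set (a := e y) haB
      rwa [← hpt] at this
    exact pt.injective.mem_set_image.1 h3
  · intro h
    rw [MulAction.is_two_pretransitive_iff]
    intro a₁ b₁ c₁ d₁ hne hne'
    obtain ⟨g₁, hg₁⟩ := MulAction.exists_smul_eq G a₁ a
    obtain ⟨g₂, hg₂⟩ := MulAction.exists_smul_eq G c₁ a
    have hx : pt.symm (g₁ • b₁) ≠ 1 := by
      rw [← hpt1, pt.symm.injective.ne_iff, ← hg₁]
      exact fun he => hne (smul_left_cancel g₁ he).symm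
    have hy : pt.symm (g₂ • d₁) ≠ 1 := by
      rw [← hpt1, pt.symm.injective.ne_iff, ← hg₂]
      exact fun he => hne' (smul_left_cancel g₂ he).symm
    obtain ⟨_, ⟨k, hk, rfl⟩, hk'⟩ := h _ _ hx hy
    rw [hφ, Equiv.apply_symm_apply, pt.symm.injective.eq_iff] at hk'
    refine ⟨g₂⁻¹ * k * g₁, ?_, ?_⟩
    · rw [mul_smul, mul_smul, hg₁, MulAction.mem_stabilizer_iff.1 hk, inv_smul_eq_iff, hg₂]
    · rw [mul_smul, mul_smul, hk', inv_smul_smul]

end FromAction

end H88.Dih
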