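import Cfsg.Agent.H88.Dihedral.Adm

/-!
The pair algebra: an invariant function on the dihedral group is a pair of elements of the group
algebra of the rotation group, and invariant pairs are closed under a twisted product.
-/

set_option autoImplicit false
set_option linter.style.haveILetI false
set_option linter.unusedSectionVars false

namespace H88.Dih

open DihedralGroup Matrix

/-- The group algebra of the rotations. -/
abbrev K (m : ℕ) (R : Type*) [CommSemiring R] := AddMonoidAlgebra R (ZMod m)

variable {m : ℕ} [NeZero m] {R R' : Type*} [CommRing R] [CommRing R']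

/-- The algebra element with given coefficients. -/
noncomputable def el (f : ZMod m → R) : K m R :=
  AddMonoidAlgebra.ofCoeff (Finsupp.equivFunOnFinite.symm f)

@[simp] theorem el_coeff (f : ZMod m → R) (x : ZMod m) : (el f).coeff x = f x := rfl

omit [NeZero m] in
theorem K.ext {u v : K m R} (h : ∀ x, u.coeff x = v.coeff x) : u = v :=
  AddMonoidAlgebra.ext (Finsupp.ext h)

theorem el_eta (u : K m R) : el (fun x => u.coeff x) = u := K.ext fun _ => rfl

theorem coeff_mul' (u v : K m R) (x : ZMod m) :
    (u * v).coeff x = ∑ y, u.coeff y * v.coeff (x - y) := by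
  rw [AddMonoidAlgebra.coeff_mul_apply_left]
  rw [Finsupp.sum_fintype _ _ fun i => by simp]
  simp [sub_eq_neg_add]

omit [NeZero m] in
theorem coeff_one' (x : ZMod m) : (1 : K m R).coeff x = if x = 0 then 1 else 0 := by
  classical
  rw [AddMonoidAlgebra.one_def, AddMonoidAlgebra.coeff_single, Finsupp.single_apply]
  simp [eq_comm]

/-- The image under negation of the group. -/
noncomputable def star' (u : K m R) : K m R := el fun x => u.coeff (-x)

@[simp] theorem star'_coeff (u : K m R) (x : ZMod m) : (star' u).coeff x = u.coeff (-x) := rfl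

/-- Change of coefficients. -/
noncomputable def red (g : R →+* R') (u : K m R) : K m R' := el fun x => g (u.coeff x)

@[simp] theorem red_coeff (g : R →+* R') (u : K m R) (x : ZMod m) :
    (red g u).coeff x = g (u.coeff x) := rfl

theorem red_mul (g : R →+* R') (u v : K m R) : red g (u * v) = red g u * red g v :=
  K.ext fun x => by simp [coeff_mul', map_sum, map_mul]

theorem red_add (g : R →+* R') (u v : K m R) : red g (u + v) = red g u + red g v :=
  K.ext fun x => by simp

theorem red_star (g : R →+* R') (u : K m R) : red g (star' u) = star' (red g u) :=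
  K.ext fun x => by simp

/-- The function of a pair. -/
def pairF (a b : K m R) : DihedralGroup m → R
  | r i => a.coeff i
  | sr i => b.coeff i

omit [NeZero m] in
@[simp] theorem pairF_r (a b : K m R) (i : ZMod m) : pairF a b (r i) = a.coeff i := rfl

omit [NeZero m] in
@[simp] theorem pairF_sr (a b : K m R) (i : ZMod m) : pairF a b (sr i) = b.coeff i := rfl

theorem sum_dihedral (F : DihedralGroup m → R) :
    ∑ z, F z = (∑ i, F (r i)) + ∑ i, F (sr i) := by
  classical
  let e : ZMod m ⊕ ZMod m ≃ DihedralGroup m :=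
    { toFun := fun s => Sum.elim r sr s
      invFun := fun z => match z with
        | r i => Sum.inl i
        | sr i => Sum.inr i
      left_inv := fun s => by rcases s with i | i <;> rfl
      right_inv := fun z => by rcases z with i | i <;> rfl }
  rw [← e.sum_comp, Fintype.sum_sum_type]
  rfl

/-- The subgroup of rotations. -/
def rot (m : ℕ) : Subgroup (DihedralGroup m) where
  carrier := {z | ∃ i, z = r i}
  one_mem' := ⟨0, by rw [one_def]⟩
  mul_mem' := fun {a b} ⟨i, hi⟩ ⟨j, hj⟩ => ⟨i + j, by rw [hi, hj, r_mul_r]⟩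
  inv_mem' := fun {a} ⟨i, hi⟩ => ⟨-i, by rw [hi, inv_r]⟩

omit [NeZero m] in
theorem rot_ne_top : rot m ≠ ⊤ := fun h => by
  obtain ⟨i, hi⟩ := (h ▸ Subgroup.mem_top (sr 0) : sr (0 : ZMod m) ∈ rot m)
  cases hi

/-- The subgroup of order two of a reflection. -/
def refl2 (j : ZMod m) : Subgroup (DihedralGroup m) where
  carrier := {z | z = 1 ∨ z = sr j}
  one_mem' := Or.inl rfl
  mul_mem' := by
    rintro a b (rfl | rfl) (rfl | rfl)
    · exact Or.inl (one_mul _)
    · exact Or.inr (one_mul _)
    · exact Or.inr (mul_one _)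
    · exact Or.inl (sr_mul_self j)
  inv_mem' := by
    rintro a (rfl | rfl)
    · exact Or.inl inv_one
    · exact Or.inr (inv_sr j)

omit [NeZero m] in
theorem refl2_ne_top (hm : 1 < m) (j : ZMod m) : refl2 j ≠ ⊤ := fun h => by
  haveI : Fact (1 < m) := ⟨hm⟩
  rcases (h ▸ Subgroup.mem_top (r 1) : r (1 : ZMod m) ∈ refl2 j) with h1 | h1
  · rw [one_def, r.injEq] at h1
    exact one_ne_zero h1
  · cases h1

namespace Sys

variable {S : Sys m} (hm : 1 < m)

omit [NeZero m] in
theorem rot_part (S : Sys m) {p : DihedralGroup m → Prop} (hp : S.Inv p) (h : ∀ i, ¬ p (sr i))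
    {x : DihedralGroup m} (hx : p x) : x = 1 := by
  refine eq_one_of_le hp rot_ne_top (fun z hz => ?_) x hx
  rcases z with i | i
  · exact ⟨i, rfl⟩
  · exact absurd hz (h i)

include hm in
theorem refl_part (S : Sys m) {p : DihedralGroup m → Prop} (hp : S.Inv p) (h : ∀ i, ¬ p (r i))
    (x : DihedralGroup m) : ¬ p x := by
  classical
  intro hx
  rcases x with i | i
  · exact h i hx
  let F : DihedralGroup m → ℕ := fun z => if p z then 1 else 0
  have hF : S.Inv F := hp.comp fun q => if q then 1 else 0
  have hq : S.Inv fun z => (∑ w, F w * F (w⁻¹ * z)) ≠ 0 := (hF.conv hF).comp fun n => n ≠ 0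
  have hone : ∀ j, p (sr j) → j = i := by
    intro j hj
    have h1 := S.rot_part hq (fun k hk => ?_) (x := sr i * sr j) ?_
    · rw [sr_mul_sr, one_def, r.injEq, sub_eq_zero] at h1
      exact h1
    · obtain ⟨w, -, hw⟩ := Finset.exists_ne_zero_of_sum_ne_zero hk
      rcases w with l | l
      · simp [F, h l] at hw
      · simp [F, h] at hw
    · refine (Finset.sum_pos' (fun _ _ => Nat.zero_le _) ⟨sr i, Finset.mem_univ _, ?_⟩).ne'
      rw [inv_mul_cancel_left]
      simp [F, hx, hj]
  have h2 := eq_one_of_le hp (refl2_ne_top hm i) (fun z hz => ?_) _ hx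
  · cases h2
  · rcases z with k | k
    · exact absurd hz (h k)
    · exact Or.inr (by rw [hone k hz])

include hm in
theorem eq_of_eq_r {α : Type*} {F F' : DihedralGroup m → α} (hF : S.Inv F) (hF' : S.Inv F')
    (h : ∀ i, i ≠ 0 → F (r i) = F' (r i)) (i : ZMod m) : F (sr i) = F' (sr i) := by
  by_contra hne
  refine S.refl_part hm (p := fun z => F z ≠ F' z ∧ ¬ z = 1) ?_ ?_ (sr i) ⟨hne, fun h1 => by cases h1⟩
  · exact (hF.comp₂ hF' fun a b => a ≠ b).comp₂ (inv_delta False True)
      (fun a b => a ∧ b) |> fun h2 => by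
        intro σ hσ x
        have := h2 σ hσ x
        by_cases h3 : x = 1
        · subst h3; rw [S.fix σ hσ]
        · have h4 : σ x ≠ 1 := fun h5 => h3 (σ.injective (h5.trans (S.fix σ hσ).symm))
          simpa [h3, h4] using this
  · intro j hj
    exact hj.1 (h j fun h0 => hj.2 (by rw [h0, one_def]))

omit [NeZero m] in
theorem eq_of_eq_sr {α : Type*} {F F' : DihedralGroup m → α} (hF : S.Inv F) (hF' : S.Inv F')
    (h : ∀ i, F (sr i) = F' (sr i)) {x : DihedralGroup m} (hx : x ≠ 1) : F x = F' x := by
  by_contra hne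
  exact hx (S.rot_part (hF.comp₂ hF' fun a b => a ≠ b) (fun i hi => hi (h i)) hne)

omit [NeZero m] in
/-- Invariant functions are symmetric. -/
theorem Inv.symm {α : Type*} {F : DihedralGroup m → α} (hF : S.Inv F) (x : DihedralGroup m) :
    F x⁻¹ = F x := by
  by_cases hx : x = 1
  · rw [hx, inv_one]
  · exact eq_of_eq_sr hF.inv hF (fun i => by show F (sr i)⁻¹ = _; rw [inv_sr]) hx

/-- An invariant pair. -/
def Adm (S : Sys m) (a b : K m R) : Prop := S.Inv (pairF a b)

variable {a b a' b' : K m R}

theorem Adm.symm (h : S.Adm a b) (x : ZMod m) : a.coeff (-x) = a.coeff x := by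
  have := Inv.symm h (r x)
  rwa [inv_r] at this

theorem Adm.star_eq (h : S.Adm a b) : star' a = a := K.ext fun x => by rw [star'_coeff, h.symm]

/-- Invariance of a function given through its two halves. -/
theorem adm_of_inv {F : DihedralGroup m → R} (hF : S.Inv F) :
    S.Adm (el fun i => F (r i)) (el fun i => F (sr i)) := by
  have : pairF (el fun i => F (r i)) (el fun i => F (sr i)) = F := by
    funext z; rcases z with i | i <;> rfl
  rw [Adm, this]
  exact hF

theorem Adm.one : S.Adm (1 : K m R) 0 := by
  classical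
  have : pairF (1 : K m R) 0 = fun z : DihedralGroup m => if z = 1 then (1 : R) else 0 := by
    funext z
    rcases z with i | i
    · have h1 : r i = 1 ↔ i = 0 := by rw [one_def, r.injEq]
      simp only [pairF, coeff_one', h1]
    · have h1 : sr i ≠ 1 := by rw [one_def]; exact fun h => nomatch h
      simp [pairF, h1]
  rw [Adm, this]
  exact inv_delta _ _

theorem Adm.add (h : S.Adm a b) (h' : S.Adm a' b') : S.Adm (a + a') (b + b') := by
  have : pairF (a + a') (b + b') = fun z => pairF a b z + pairF a' b' z := by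
    funext z; rcases z with i | i <;> simp [pairF]
  rw [Adm, this]
  exact h.comp₂ h' (· + ·)

theorem Adm.map (h : S.Adm a b) (g : R →+* R') : S.Adm (red g a) (red g b) := by
  have : pairF (red g a) (red g b) = fun z => g (pairF a b z) := by
    funext z; rcases z with i | i <;> simp [pairF]
  rw [Adm, this]
  exact h.comp g

theorem Adm.mul (h : S.Adm a b) (h' : S.Adm a' b') :
    S.Adm (a * a' + star' b * b') (a * b' + b * a') := by
  have : pairF (a * a' + star' b * b') (a * b' + b * a') =
      fun x => ∑ z, pairF a b z * pairF a' b' (z⁻¹ * x) := by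
    funext x
    rw [sum_dihedral]
    rcases x with j | j
    · simp only [pairF, AddMonoidAlgebra.coeff_add, Finsupp.add_apply, coeff_mul', inv_r, inv_sr,
        r_mul_r, sr_mul_r, star'_coeff]
      congr 1
      · exact Finset.sum_congr rfl fun i _ => by rw [neg_add_eq_sub]
      · exact Fintype.sum_equiv (Equiv.neg _) _ _ fun i => by simp [add_comm, sub_eq_add_neg]
    · simp only [pairF, AddMonoidAlgebra.coeff_add, Finsupp.add_apply, coeff_mul', inv_r, inv_sr,
        r_mul_sr, sr_mul_sr, star'_coeff]
      congr 1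
      exact Fintype.sum_equiv (Equiv.neg _) _ _ fun i => by
        simp [h.symm, sub_eq_add_neg, add_comm]
  rw [Adm, this]
  exact h.conv h'

end Sys

section Frobenius

variable {S : Sys m} {p : ℕ} [Fact p.Prime]

instance : CharP (K m (ZMod p)) p :=
  charP_of_injective_ringHom (f := AddMonoidAlgebra.singleZeroRingHom)
    (fun u v h => by simpa using congrArg (fun w : K m (ZMod p) => w.coeff 0) h) p

theorem el_eq_sum (f : ZMod m → R) : el f = ∑ y, AddMonoidAlgebra.single y (f y) := by
  classical
  refine K.ext fun x => ?_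
  simp [AddMonoidAlgebra.coeff_sum, Finsupp.single_apply]

theorem coeff_pow_prime (u : K m (ZMod p)) (x : ZMod m) :
    (u ^ p).coeff x = ∑ y ∈ Finset.univ.filter (fun y : ZMod m => (p : ZMod m) * y = x), u.coeff y := by
  classical
  conv_lhs => rw [← el_eta u, el_eq_sum, sum_pow_char]
  simp [AddMonoidAlgebra.single_pow, AddMonoidAlgebra.coeff_sum, Finsupp.single_apply,
    Finset.sum_filter, nsmul_eq_mul, ZMod.pow_card]

/-- Frobenius congruence for invariant pairs. -/
theorem Sys.Adm.frobenius {a b : K m (ZMod p)} (h : S.Adm a b) {k : ℕ} (hk : p = 2 * k + 1) :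
    S.Adm (a ^ p) (b * (star' b * b) ^ k) := by
  set Sb := star' b * b with hSb
  set M : Matrix (Fin 2) (Fin 2) (K m (ZMod p)) := !![a, Sb; 1, a] with hM
  set N : Matrix (Fin 2) (Fin 2) (K m (ZMod p)) := !![0, Sb; 1, 0] with hN
  have hpow : ∀ n : ℕ, S.Adm ((M ^ n) 0 0) (b * (M ^ n) 1 0) := by
    intro n
    induction n with
    | zero => simpa using (Sys.Adm.one : S.Adm (1 : K m (ZMod p)) 0)
    | succ n ih =>
      have h1 := h.mul ih
      rw [pow_succ' M n, Matrix.mul_apply, Matrix.mul_apply, Fin.sum_univ_two, Fin.sum_univ_two]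
      simp only [hM, Matrix.of_apply, Matrix.cons_val', Matrix.cons_val_zero, Matrix.cons_val_one,
        Matrix.empty_val', Matrix.cons_val_fin_one, one_mul] at h1 ⊢
      convert h1 using 1 <;> simp only [hSb] <;> ring
  have hMN : M = a • (1 : Matrix (Fin 2) (Fin 2) (K m (ZMod p))) + N := by
    ext i j
    fin_cases i <;> fin_cases j <;> simp [hM, hN]
  have hN2 : N ^ 2 = Sb • (1 : Matrix (Fin 2) (Fin 2) (K m (ZMod p))) := by
    ext i j
    fin_cases i <;> fin_cases j <;> simp [hN, sq, Matrix.mul_apply, Fin.sum_univ_two]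
  have hMp : M ^ p = a ^ p • (1 : Matrix (Fin 2) (Fin 2) (K m (ZMod p))) + Sb ^ k • N := by
    rw [hMN, add_pow_char_of_commute _ ((Commute.one_left N).smul_left a), smul_pow, one_pow]
    congr 1
    rw [show N ^ p = N ^ (2 * k + 1) from congrArg (N ^ ·) hk]
    rw [pow_succ, pow_mul, hN2, smul_pow, one_pow, smul_mul_assoc, one_mul]
  have h2 := hpow p
  rw [hMp] at h2
  simpa [hN] using h2

end Frobenius

end H88.Dih
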