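import Cfsg.Agent.H88.Dihedral.Rational

/-!
Invariant sets as pairs of finite sets, with the counting identities coming from their squares.
-/

set_option autoImplicit false
set_option linter.style.haveILetI false
set_option linter.unusedSectionVars false

namespace H88.Dih

open DihedralGroup Finset

variable {m : ℕ} [NeZero m]

/-- Indicator element of a finite set. -/
noncomputable def ind (R : Type*) [CommRing R] (A : Finset (ZMod m)) : K m R :=
  el fun x => if x ∈ A then 1 else 0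

@[simp] theorem ind_coeff {R : Type*} [CommRing R] (A : Finset (ZMod m)) (x : ZMod m) :
    (ind R A).coeff x = if x ∈ A then 1 else 0 := rfl

/-- The number of elements of `A` moved into `B` by `g`. -/
def cnt (A B : Finset (ZMod m)) (g : ZMod m) : ℕ := (A.filter fun v => v + g ∈ B).card

theorem ind_mul_coeff {R : Type*} [CommRing R] (A B : Finset (ZMod m)) (g : ZMod m) :
    (ind R A * ind R B).coeff g = ((A.filter fun v => g - v ∈ B).card : R) := by
  rw [coeff_mul', Finset.card_filter, Nat.cast_sum]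
  simp only [ind_coeff, ite_mul, one_mul, zero_mul]
  rw [Finset.sum_ite_mem, Finset.univ_inter]
  exact Finset.sum_congr rfl fun v _ => by split_ifs <;> simp

theorem star'_ind {R : Type*} [CommRing R] (A : Finset (ZMod m)) :
    star' (ind R A) = ind R (A.map (Equiv.neg (ZMod m)).toEmbedding) :=
  K.ext fun x => by simp [neg_eq_iff_eq_neg]

theorem star'_ind_mul {R : Type*} [CommRing R] (A B : Finset (ZMod m)) (g : ZMod m) :
    (star' (ind R A) * ind R B).coeff g = (cnt A B g : R) := by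
  rw [star'_ind, ind_mul_coeff, cnt, Finset.filter_map, Finset.card_map]
  congr 2
  exact Finset.filter_congr fun v _ => by
    simp [add_comm]

/-- The total number of incidences between `A` and `B`. -/
theorem sum_cnt (A B C : Finset (ZMod m)) :
    ∑ x ∈ C, cnt A B x = ∑ y ∈ A, cnt C B y := by
  simp only [cnt, Finset.card_filter]
  rw [Finset.sum_comm]
  exact Finset.sum_congr rfl fun y _ => Finset.sum_congr rfl fun x _ => by rw [add_comm]

theorem sum_cnt_univ (A B : Finset (ZMod m)) : ∑ x, cnt A B x = A.card * B.card := by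
  rw [sum_cnt, Finset.sum_const_nat]
  intro y _
  rw [cnt]
  refine Finset.card_bij (fun x _ => x + y) (fun x hx => (Finset.mem_filter.1 hx).2)
    (fun x _ x' _ h => add_right_cancel h) fun b hb => ⟨b - y, ?_, sub_add_cancel b y⟩
  simp [hb]

/-- The subgroup over a subgroup of rotations through a reflection. -/
def dsub (L : AddSubgroup (ZMod m)) (j : ZMod m) : Subgroup (DihedralGroup m) where
  carrier := {z | (∃ i ∈ L, z = r i) ∨ ∃ i, i - j ∈ L ∧ z = sr i}
  one_mem' := Or.inl ⟨0, L.zero_mem, by rw [one_def]⟩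
  mul_mem' := by
    rintro a b (⟨i, hi, rfl⟩ | ⟨i, hi, rfl⟩) (⟨k, hk, rfl⟩ | ⟨k, hk, rfl⟩)
    · exact Or.inl ⟨i + k, L.add_mem hi hk, r_mul_r i k⟩
    · exact Or.inr ⟨k - i, by rw [sub_right_comm]; exact L.sub_mem hk hi, r_mul_sr i k⟩
    · exact Or.inr ⟨i + k, by rw [add_sub_right_comm]; exact L.add_mem hi hk, sr_mul_r i k⟩
    · exact Or.inl ⟨k - i, by simpa using L.sub_mem hk hi, sr_mul_sr i k⟩
  inv_mem' := by
    rintro a (⟨i, hi, rfl⟩ | ⟨i, hi, rfl⟩)
    · exact Or.inl ⟨-i, L.neg_mem hi, inv_r i⟩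
    · exact Or.inr ⟨i, hi, inv_sr i⟩

theorem dsub_ne_top {L : AddSubgroup (ZMod m)} (hL : L ≠ ⊤) (j : ZMod m) : dsub L j ≠ ⊤ := by
  intro h
  refine hL (eq_top_iff.2 fun i _ => ?_)
  rcases (h ▸ Subgroup.mem_top (r i) : r i ∈ dsub L j) with ⟨k, hk, he⟩ | ⟨k, -, he⟩
  · rw [r.injEq] at he
    rwa [he]
  · cases he

/-- An invariant set with rational rotation part not containing the identity. -/
structure Blk (S : Sys m) where
  /-- Rotation part. -/
  X : Finset (ZMod m)
  /-- Reflection part. -/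
  Y : Finset (ZMod m)
  adm : S.Adm (ind ℤ X) (ind ℤ Y)
  rat : ∀ x y, addOrderOf x = addOrderOf y → (x ∈ X ↔ y ∈ X)
  zero : (0 : ZMod m) ∉ X

namespace Blk

variable {S : Sys m} (T : Blk S)

theorem isRat : IsRat (ind ℤ T.X) := fun x y h => by
  simp only [ind_coeff, T.rat x y h]

theorem adm' (R : Type*) [CommRing R] : S.Adm (ind R T.X) (ind R T.Y) := by
  have h := T.adm.map (Int.castRingHom R)
  convert h using 1 <;> refine K.ext fun x => ?_ <;> simp

theorem neg_mem {x : ZMod m} : -x ∈ T.X ↔ x ∈ T.X := T.rat _ _ (addOrderOf_neg x)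

theorem star_X (R : Type*) [CommRing R] : star' (ind R T.X) = ind R T.X :=
  K.ext fun x => by simp [T.neg_mem]

theorem X_mul_coeff (R : Type*) [CommRing R] (B : Finset (ZMod m)) (g : ZMod m) :
    (ind R T.X * ind R B).coeff g = (cnt T.X B g : R) := by
  rw [← star'_ind_mul (R := R) T.X B g, T.star_X R]

/-- Values of the square on rotations. -/
def sqC (g : ZMod m) : ℕ := cnt T.X T.X g + cnt T.Y T.Y g

/-- Values of the square on reflections. -/
def sqR (g : ZMod m) : ℕ := 2 * cnt T.X T.Y g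

theorem sq_adm (R : Type*) [CommRing R] :
    S.Adm (el fun g => (T.sqC g : R)) (el fun g => (T.sqR g : R)) := by
  have h := (T.adm' R).mul (T.adm' R)
  convert h using 1 <;> refine K.ext fun g => ?_
  · rw [el_coeff, AddMonoidAlgebra.coeff_add, Finsupp.add_apply, star'_ind_mul, T.X_mul_coeff R]
    simp only [sqC, Nat.cast_add]
  · rw [el_coeff, AddMonoidAlgebra.coeff_add, Finsupp.add_apply, mul_comm (ind R T.Y),
      T.X_mul_coeff R]
    simp only [sqR, two_mul, Nat.cast_add]

theorem sq_isRat (hm : 1 < m) : IsRat (el fun g => (T.sqC g : ℤ)) := by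
  have h := T.adm.mul_isRat hm T.isRat T.adm T.isRat
  have hx : (el fun g => (T.sqC g : ℤ)) =
      ind ℤ T.X * ind ℤ T.X + star' (ind ℤ T.Y) * ind ℤ T.Y := by
    refine K.ext fun g => ?_
    rw [el_coeff, AddMonoidAlgebra.coeff_add, Finsupp.add_apply, star'_ind_mul, T.X_mul_coeff ℤ]
    simp only [sqC, Nat.cast_add]
  rw [hx]
  exact h

theorem Y_nonempty (hX : T.X.Nonempty) : T.Y.Nonempty := by
  by_contra hY
  obtain ⟨x, hx⟩ := hX
  have h : (r x : DihedralGroup m) = 1 := S.rot_part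
    (p := fun z => pairF (ind ℤ T.X) (ind ℤ T.Y) z ≠ 0) (T.adm.comp fun v => v ≠ 0)
    (fun i hi => by simp [Finset.not_nonempty_iff_eq_empty.1 hY] at hi) (by simp [hx])
  rw [one_def, r.injEq] at h
  exact T.zero (h ▸ hx)

theorem X_nonempty (hm : 1 < m) (hY : T.Y.Nonempty) : T.X.Nonempty := by
  by_contra hX
  obtain ⟨y, hy⟩ := hY
  exact S.refl_part hm (p := fun z => pairF (ind ℤ T.X) (ind ℤ T.Y) z ≠ 0)
    (T.adm.comp fun v => v ≠ 0)
    (fun i hi => by simp [Finset.not_nonempty_iff_eq_empty.1 hX] at hi) (sr y) (by simp [hy])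

/-- If the rotations lie in a proper subgroup, the reflections meet two cosets of it. -/
theorem two_cosets (hX : T.X.Nonempty) {L : AddSubgroup (ZMod m)} (hL : L ≠ ⊤)
    (hXL : ∀ x ∈ T.X, x ∈ L) {y : ZMod m} (hy : y ∈ T.Y) : ∃ y' ∈ T.Y, y' - y ∉ L := by
  by_contra hne
  push Not at hne
  obtain ⟨x, hx⟩ := hX
  have h : (r x : DihedralGroup m) = 1 := Sys.eq_one_of_le
    (p := fun z => pairF (ind ℤ T.X) (ind ℤ T.Y) z ≠ 0) (T.adm.comp fun v => v ≠ 0)
    (dsub_ne_top hL y) (fun z hz => ?_) (r x) (by simp [hx])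
  · rw [one_def, r.injEq] at h
    exact T.zero (h ▸ hx)
  · rcases z with i | i
    · simp only [pairF_r, ind_coeff, ne_eq, ite_eq_right_iff, one_ne_zero, imp_false, not_not] at hz
      exact Or.inl ⟨i, hXL i hz, rfl⟩
    · simp only [pairF_sr, ind_coeff, ne_eq, ite_eq_right_iff, one_ne_zero, imp_false, not_not] at hz
      exact Or.inr ⟨i, hne i hz, rfl⟩

theorem two_cosets_card (hX : T.X.Nonempty) {L : AddSubgroup (ZMod m)} (hL : L ≠ ⊤)
    (hXL : ∀ x ∈ T.X, x ∈ L) {c : ℕ} (hc : ∀ y ∈ T.Y, cnt T.X T.Y y = c) :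
    2 * (c + 1) ≤ T.Y.card := by
  classical
  obtain ⟨y, hy⟩ := T.Y_nonempty hX
  obtain ⟨y', hy', hne⟩ := T.two_cosets hX hL hXL hy
  let W : ZMod m → Finset (ZMod m) := fun z =>
    insert z ((T.X.filter fun v => v + z ∈ T.Y).map (addRightEmbedding z))
  have hcard : ∀ z ∈ T.Y, (W z).card = c + 1 := by
    intro z hz
    rw [Finset.card_insert_of_notMem, Finset.card_map]
    · rw [← hc z hz]; rfl
    · simp only [Finset.mem_map, addRightEmbedding_apply, Finset.mem_filter, not_exists, not_and]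
      intro v hv he
      exact T.zero (add_eq_right.1 he ▸ hv.1)
  have hsub : ∀ z ∈ T.Y, ∀ w ∈ W z, w ∈ T.Y ∧ w - z ∈ L := by
    intro z hz w hw
    simp only [W, Finset.mem_insert, Finset.mem_map, addRightEmbedding_apply, Finset.mem_filter] at hw
    rcases hw with rfl | ⟨v, hv, rfl⟩
    · exact ⟨hz, by rw [sub_self]; exact L.zero_mem⟩
    · exact ⟨hv.2, by rw [add_sub_cancel_right]; exact hXL v hv.1⟩
  calc 2 * (c + 1) = (W y).card + (W y').card := by rw [hcard y hy, hcard y' hy']; omega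
    _ = (W y ∪ W y').card := by
      refine (Finset.card_union_of_disjoint (Finset.disjoint_left.2 fun w h1 h2 => hne ?_)).symm
      have := L.sub_mem (hsub y hy w h1).2 (hsub y' hy' w h2).2
      simpa using this
    _ ≤ T.Y.card := Finset.card_le_card fun w hw => by
      rcases Finset.mem_union.1 hw with hw | hw
      · exact (hsub y hy w hw).1
      · exact (hsub y' hy' w hw).1

/-- The invariant set of a class of orders. -/
noncomputable def cls (S : Sys m) (u : ℕ) : Blk S where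
  X := by classical exact univ.filter fun x => x ≠ 0 ∧ S.Same u (addOrderOf x)
  Y := by classical exact univ.filter fun y => (Sys.good_same (S := S) u).choose (sr y)
  adm := by
    classical
    obtain ⟨hT, hT'⟩ := (Sys.good_same (S := S) u).choose_spec
    set T := (Sys.good_same (S := S) u).choose with hTdef
    have h : S.Inv fun z => if T z ∧ ¬ z = 1 then (1 : ℤ) else 0 := by
      intro σ hσ z
      by_cases hz : z = 1
      · subst hz; simp only [S.fix σ hσ]
      · have h4 : σ z ≠ 1 := fun h5 => hz (σ.injective (h5.trans (S.fix σ hσ).symm))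
        simp only [hT σ hσ z, hz, h4]
    convert Sys.adm_of_inv h using 1 <;> refine K.ext fun x => ?_
    · simp only [ind_coeff, el_coeff, Finset.mem_filter, Finset.mem_univ, true_and]
      refine if_congr ?_ rfl rfl
      rw [one_def, r.injEq]
      exact ⟨fun h0 => ⟨(hT' x h0.1).2 h0.2, h0.1⟩, fun h0 => ⟨h0.2, (hT' x h0.2).1 h0.1⟩⟩
    · simp only [ind_coeff, el_coeff, Finset.mem_filter, Finset.mem_univ, true_and]
      refine if_congr ?_ rfl rfl
      exact ⟨fun h0 => ⟨h0, fun he => by cases he⟩, fun h0 => h0.1⟩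
  rat x y h := by
    classical
    simp only [Finset.mem_filter, Finset.mem_univ, true_and, h, ne_eq,
      ← AddMonoid.addOrderOf_eq_one_iff]
  zero := by simp

theorem mem_cls {u : ℕ} {x : ZMod m} :
    x ∈ (cls S u).X ↔ x ≠ 0 ∧ S.Same u (addOrderOf x) := by
  classical
  simp [cls]

theorem cls_nonempty {u : ℕ} (hu : u ∣ m) (hu1 : u ≠ 1) : (cls S u).X.Nonempty := by
  obtain ⟨x, hx⟩ := exists_order hu
  exact ⟨x, mem_cls.2 ⟨fun h => hu1 (by rw [← hx, h, addOrderOf_zero]), by rw [hx]; exact Sys.Same.refl u⟩⟩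

/-- Being an atom. -/
def IsAtom : Prop :=
  ∀ (a b : K m ℤ), S.Adm a b → IsRat a → ∀ x ∈ T.X, ∀ x' ∈ T.X, a.coeff x = a.coeff x'

theorem cls_isAtom (u : ℕ) : (cls S u).IsAtom := fun a b hab ha x hx x' hx' =>
  Sys.eq_of_same (F := pairF a b) hab (fun v w h => ha v w h)
    ((mem_cls.1 hx).2.symm.trans (mem_cls.1 hx').2)

theorem IsAtom.const {T : Blk S} (hT : T.IsAtom) (hm : 1 < m) {a b : K m ℤ} (hab : S.Adm a b)
    (ha : IsRat a) {x y : ZMod m} (hx : x ∈ T.X) (hy : y ∈ T.Y) : b.coeff y = a.coeff x := by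
  refine Sys.const_on_refl (F := pairF a b) hm hab
    (T := fun z => pairF (ind ℤ T.X) (ind ℤ T.Y) z ≠ 0) (T.adm.comp fun v => v ≠ 0) (fun i _ hi => ?_)
    (j := y) (by simp [hy])
  simp only [pairF_r, ind_coeff, ne_eq, ite_eq_right_iff, one_ne_zero, imp_false, not_not] at hi
  exact hT a b hab ha i hi x hx

/-- The square is constant on an atom. -/
theorem IsAtom.exists_count {T : Blk S} (hT : T.IsAtom) (hm : 1 < m) (hX : T.X.Nonempty) :
    ∃ c, (∀ x ∈ T.X, T.sqC x = 2 * c) ∧ ∀ y ∈ T.Y, cnt T.X T.Y y = c := by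
  obtain ⟨y₀, hy₀⟩ := T.Y_nonempty hX
  have hC : ∀ x ∈ T.X, ∀ y ∈ T.Y, T.sqC x = 2 * cnt T.X T.Y y := by
    intro x hx y hy
    have h := hT.const hm (T.sq_adm ℤ) (T.sq_isRat hm) hx hy
    simp only [el_coeff, sqR, Nat.cast_inj] at h
    omega
  refine ⟨cnt T.X T.Y y₀, fun x hx => hC x hx y₀ hy₀, fun y hy => ?_⟩
  obtain ⟨x, hx⟩ := hX
  have := hC x hx y hy
  have := hC x hx y₀ hy₀
  omega

theorem sum_eq {c : ℕ} (h1 : ∀ x ∈ T.X, T.sqC x = 2 * c) (h2 : ∀ y ∈ T.Y, cnt T.X T.Y y = c) :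
    T.Y.card * c + ∑ x ∈ T.X, cnt T.X T.X x = 2 * c * T.X.card := by
  have h3 : ∑ x ∈ T.X, T.sqC x = 2 * c * T.X.card := by
    rw [Finset.sum_congr rfl h1, Finset.sum_const, smul_eq_mul, mul_comm]
  simp only [sqC, Finset.sum_add_distrib] at h3
  rw [sum_cnt T.Y T.Y T.X, Finset.sum_congr rfl h2, Finset.sum_const, smul_eq_mul] at h3
  omega

end Blk

end H88.Dih
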