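import Cfsg.Agent.H88.Dihedral.KillPrime

/-!
All squarefree orders fall into one class up to pairs cancelling in Möbius sums, so rational
invariant elements have integral character values tied to that class.
-/

set_option autoImplicit false
set_option linter.style.haveILetI false
set_option linter.unusedSectionVars false

namespace H88.Dih

open DihedralGroup Finset
open scoped ArithmeticFunction.Moebius

variable {m : ℕ} [NeZero m] {S : Sys m}

theorem sum_moebius {n : ℕ} (hn : n ≠ 0) :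
    ∑ d ∈ n.divisors, ArithmeticFunction.moebius d = if n = 1 then 1 else 0 := by
  have h := congrArg (fun f : ArithmeticFunction ℤ => f n) ArithmeticFunction.moebius_mul_coe_zeta
  simp only [ArithmeticFunction.coe_mul_zeta_apply, ArithmeticFunction.one_apply] at h
  exact h

theorem same_of_odd_primes (hm : 1 < m) {q q' : ℕ} (hq : q.Prime) (hq2 : q ≠ 2) (hqm : q ∣ m)
    (hq' : q'.Prime) (hq'2 : q' ≠ 2) (hq'm : q' ∣ m) : S.Same q q' := by
  by_cases he : q = q'
  · exact he ▸ Sys.Same.refl q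
  have key : ∀ {a b : ℕ}, a.Prime → a ≠ 2 → a ∣ m → b.Prime → b ≠ 2 → b ∣ m → a ≠ b →
      S.Same a (b * a) := by
    intro a b ha ha2 ham hb hb2 hbm hab
    obtain ⟨-, -, e, -, hae, hbe⟩ := mem_suppP.1 (mem_suppP_of_prime (S := S) hm ha ha2 ham hb hb2 hbm)
    by_contra hh
    exact (S.frob_split hm hb hb2 hbm
      (fun h => hab ((Nat.prime_dvd_prime_iff_eq hb ha).1 h).symm) hh hae).1 hbe
  have h1 := key hq hq2 hqm hq' hq'2 hq'm he
  have h2 := key hq' hq'2 hq'm hq hq2 hqm (Ne.symm he)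
  rw [mul_comm] at h2
  exact h1.trans h2.symm

theorem same_odd_squarefree (hm : 1 < m) {q₀ : ℕ} (hq₀ : q₀.Prime) (hq₀2 : q₀ ≠ 2) (hq₀m : q₀ ∣ m) :
    ∀ d, d ∣ m → d ≠ 1 → Squarefree d → ¬ 2 ∣ d → S.Same q₀ d := by
  intro d
  induction d using Nat.strong_induction_on with
  | _ d ih =>
    intro hd hd1 hsq hodd
    obtain ⟨q, hq, hqd⟩ := Nat.exists_prime_and_dvd hd1
    have hq2 : q ≠ 2 := fun h => hodd (h ▸ hqd)
    obtain ⟨d', rfl⟩ := hqd
    have hqm : q ∣ m := (dvd_mul_right q d').trans hd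
    by_cases hd' : d' = 1
    · subst hd'
      rw [mul_one]
      exact same_of_odd_primes hm hq₀ hq₀2 hq₀m hq hq2 hqm
    have hqd' : ¬ q ∣ d' := fun h => hq.ne_one (Nat.isUnit_iff.1 (hsq q (Nat.mul_dvd_mul_left q h)))
    have hpos : 0 < d' := Nat.pos_of_ne_zero fun h => hqd' (h ▸ dvd_zero q)
    have h1 := ih d' (lt_mul_of_one_lt_left hpos hq.one_lt) ((dvd_mul_left d' q).trans hd) hd'
      (hsq.squarefree_of_dvd (dvd_mul_left d' q)) (fun h => hodd (h.mul_left q))
    by_contra hh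
    exact (S.frob_split hm hq hq2 hqm hqd' (fun h => hh (h1.trans h))
      (h1.symm.trans (same_of_odd_primes hm hq₀ hq₀2 hq₀m hq hq2 hqm))).1 dvd_rfl

/-- The comparison class. -/
theorem exists_comb (hm : 1 < m) : ∃ u, u ∣ m ∧ u ≠ 1 ∧
    (∀ q, q.Prime → q ∣ m → q ≠ 2 → S.Same u q) ∧
    ((∀ q, q.Prime → q ∣ m → q = 2) → u = 2) ∧
    ∀ g : ℕ → ℤ, (∀ d e, d ∣ m → e ∣ m → d ≠ 1 → e ≠ 1 → S.Same d e → g d = g e) →
      ∑ d ∈ m.divisors, ArithmeticFunction.moebius d * g d = g 1 - g u := by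
  classical
  have hm1 : m ≠ 1 := hm.ne'
  by_cases hodd : ∀ q, q.Prime → q ∣ m → q = 2
  · obtain ⟨q, hq, hqm⟩ := Nat.exists_prime_and_dvd hm1
    have h2 : 2 ∣ m := hodd q hq hqm ▸ hqm
    refine ⟨2, h2, by norm_num, fun r hr hrm hr2 => absurd (hodd r hr hrm) hr2, fun _ => rfl,
      fun g _ => ?_⟩
    rw [← Finset.sum_subset (s₁ := ({1, 2} : Finset ℕ))]
    · rw [Finset.sum_pair (by norm_num), ArithmeticFunction.moebius_apply_one,
        ArithmeticFunction.moebius_apply_prime Nat.prime_two]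
      ring
    · intro d hd
      simp only [Finset.mem_insert, Finset.mem_singleton] at hd
      rcases hd with rfl | rfl <;> simp [h2, NeZero.ne m]
    · intro d hd hd'
      simp only [Finset.mem_insert, Finset.mem_singleton, not_or] at hd'
      rw [ArithmeticFunction.moebius_eq_zero_of_not_squarefree, zero_mul]
      intro hsq
      obtain ⟨r, hr, hrd⟩ := Nat.exists_prime_and_dvd hd'.1
      have hdm := (Nat.mem_divisors.1 hd).1
      obtain rfl := hodd r hr (hrd.trans hdm)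
      obtain ⟨d', rfl⟩ := hrd
      by_cases hd1 : d' = 1
      · exact hd'.2 (by rw [hd1])
      obtain ⟨s, hs, hsd⟩ := Nat.exists_prime_and_dvd hd1
      have := hodd s hs ((hsd.mul_left 2).trans hdm)
      subst this
      exact absurd (Nat.isUnit_iff.1 (hsq 2 (Nat.mul_dvd_mul_left 2 hsd))) (by norm_num)
  push Not at hodd
  obtain ⟨q₀, hq₀, hq₀m, hq₀2⟩ := hodd
  refine ⟨q₀, hq₀m, hq₀.ne_one, fun q hq hqm hq2 => same_of_odd_primes hm hq₀ hq₀2 hq₀m hq hq2 hqm,
    fun h => absurd (h q₀ hq₀ hq₀m) hq₀2, fun g hg => ?_⟩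
  have hsum : ∑ d ∈ m.divisors, ArithmeticFunction.moebius d * g d =
      ∑ d ∈ m.divisors, ArithmeticFunction.moebius d * (g d - g q₀) := by
    simp only [mul_sub, Finset.sum_sub_distrib, ← Finset.sum_mul, sum_moebius (NeZero.ne m), hm1,
      if_false, zero_mul, sub_zero]
  rw [hsum, ← Finset.add_sum_erase _ _ (Nat.mem_divisors.2 ⟨one_dvd m, NeZero.ne m⟩),
    ArithmeticFunction.moebius_apply_one, one_mul, add_eq_left]
  set Ev := (m.divisors.erase 1).filter fun d => Squarefree d ∧ 2 ∣ d with hEv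
  rw [← Finset.sum_subset (s₁ := Ev) (Finset.filter_subset _ _)]
  swap
  · intro d hd hd'
    rw [Finset.mem_erase, Nat.mem_divisors] at hd
    by_cases hsq : Squarefree d
    · have hnot : ¬ 2 ∣ d := fun h => hd' (Finset.mem_filter.2
        ⟨Finset.mem_erase.2 ⟨hd.1, Nat.mem_divisors.2 hd.2⟩, hsq, h⟩)
      rw [hg d q₀ hd.2.1 hq₀m hd.1 hq₀.ne_one (same_odd_squarefree hm hq₀ hq₀2 hq₀m d hd.2.1 hd.1 hsq hnot).symm,
        sub_self, mul_zero]
    · rw [ArithmeticFunction.moebius_eq_zero_of_not_squarefree hsq, zero_mul]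
  by_cases h2 : 2 ∣ m
  swap
  · exact Finset.sum_eq_zero fun d hd => absurd
      ((Finset.mem_filter.1 hd).2.2.trans (Nat.mem_divisors.1 (Finset.mem_erase.1 (Finset.mem_filter.1 hd).1).2).1) h2
  obtain ⟨x, hx, r, hr, hr2, hrx⟩ : ∃ x ∈ (Blk.cls S 2).X, ∃ r : ℕ, r.Prime ∧ r ≠ 2 ∧ r ∣ addOrderOf x := by
    by_contra hh
    push Not at hh
    refine (Blk.cls S 2).not_two_power hm (Blk.cls_isAtom 2) (Blk.cls_nonempty h2 (by norm_num))
      (fun x hx => ?_) hq₀ hq₀2 hq₀m
    exact ⟨_, Nat.eq_prime_pow_of_unique_prime_dvd (addOrderOf_pos x).ne' fun {l} hl hlx =>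
      not_not.1 fun h2' => hh x hx l hl h2' hlx⟩
  have hrm : r ∣ m := hrx.trans (order_dvd x)
  have hmeet : ∀ d, Squarefree d → d ∣ m → 2 ∣ d → ¬ r ∣ d → ∃ e, S.Same d e ∧ r ∣ e := by
    intro d
    induction d using Nat.strong_induction_on with
    | _ d ih =>
      intro hsq hdm hd2 hrd
      by_cases hd : d = 2
      · exact ⟨_, hd ▸ (Blk.mem_cls.1 hx).2, hrx⟩
      obtain ⟨d₀, rfl⟩ := hd2
      obtain ⟨q, hq, hqd⟩ := Nat.exists_prime_and_dvd (show d₀ ≠ 1 from fun h => hd (by rw [h]))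
      obtain ⟨d₁, rfl⟩ := hqd
      have hq2 : q ≠ 2 := fun h => by
        subst h
        exact absurd (Nat.isUnit_iff.1 (hsq 2 (Nat.mul_dvd_mul_left 2 (dvd_mul_right 2 d₁)))) (by norm_num)
      have e1 : 2 * (q * d₁) = q * (2 * d₁) := by ring
      rw [e1] at hsq hdm hrd ⊢
      have hqd' : ¬ q ∣ 2 * d₁ := fun h => hq.ne_one (Nat.isUnit_iff.1 (hsq q (Nat.mul_dvd_mul_left q h)))
      have hpos : 0 < 2 * d₁ := Nat.pos_of_ne_zero fun h => hqd' (h ▸ dvd_zero q)
      obtain ⟨e, he, hre⟩ := ih (2 * d₁) (e1 ▸ lt_mul_of_one_lt_left hpos hq.one_lt)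
        (hsq.squarefree_of_dvd (dvd_mul_left _ q)) ((dvd_mul_left _ q).trans hdm) (dvd_mul_right 2 d₁)
        (fun h => hrd (h.mul_left q))
      by_cases hs : S.Same (2 * d₁) (q * (2 * d₁))
      · exact ⟨e, hs.symm.trans he, hre⟩
      · exact ⟨q * e, (S.frob_split hm hq hq2 ((dvd_mul_right q _).trans hdm) hqd' hs he).2, hre.mul_left q⟩
  have hpair : ∀ d, Squarefree d → d ∣ m → 2 ∣ d → ¬ r ∣ d → g (r * d) = g d := by
    intro d hsq hdm hd2 hrd
    refine hg _ _ ((hr.coprime_iff_not_dvd.2 hrd).mul_dvd_of_dvd_of_dvd hrm hdm) hdm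
      (fun h => hr.ne_one (Nat.eq_one_of_mul_eq_one_right h)) (fun h => by rw [h] at hd2; norm_num at hd2) ?_
    by_contra hh
    obtain ⟨e, he, hre⟩ := hmeet d hsq hdm hd2 hrd
    exact (S.frob_split hm hr hr2 hrm hrd (fun h => hh h.symm) he).1 hre
  have hmu : ∀ d, ¬ r ∣ d →
      ArithmeticFunction.moebius (r * d) = - ArithmeticFunction.moebius d := by
    intro d hrd
    rw [ArithmeticFunction.isMultiplicative_moebius.map_mul_of_coprime (hr.coprime_iff_not_dvd.2 hrd),
      ArithmeticFunction.moebius_apply_prime hr, neg_one_mul]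
  have hmem : ∀ d, d ∈ Ev ↔ d ∣ m ∧ Squarefree d ∧ 2 ∣ d := by
    intro d
    simp only [hEv, Finset.mem_filter, Finset.mem_erase, Nat.mem_divisors]
    exact ⟨fun h => ⟨h.1.2.1, h.2⟩,
      fun h => ⟨⟨fun h' => by rw [h'] at h; norm_num at h, h.1, NeZero.ne m⟩, h.2⟩⟩
  have h2r : ¬ 2 ∣ r := fun h => hr2 ((Nat.prime_dvd_prime_iff_eq Nat.prime_two hr).1 h).symm
  refine Finset.sum_involution (fun d _ => if r ∣ d then d / r else r * d) ?_ ?_ ?_ ?_
  · intro d hd
    rw [hmem] at hd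
    split_ifs with h
    · obtain ⟨e, rfl⟩ := h
      have hre : ¬ r ∣ e := fun h' => hr.ne_one (Nat.isUnit_iff.1 (hd.2.1 r (Nat.mul_dvd_mul_left r h')))
      have h2e : 2 ∣ e := (Nat.prime_two.dvd_mul.1 hd.2.2).resolve_left h2r
      rw [Nat.mul_div_cancel_left _ hr.pos, hmu e hre,
        hpair e (hd.2.1.squarefree_of_dvd (dvd_mul_left _ _)) ((dvd_mul_left _ _).trans hd.1) h2e hre]
      ring
    · rw [hmu d h, hpair d hd.2.1 hd.1 hd.2.2 h]
      ring
  · intro d hd _ he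
    rw [hmem] at hd
    have hd0 : 0 < d := Nat.pos_of_ne_zero hd.2.1.ne_zero
    have h1 := hr.one_lt
    split_ifs at he with h
    · exact absurd he (Nat.div_lt_self hd0 h1).ne
    · exact absurd he (lt_mul_of_one_lt_left hd0 h1).ne'
  · intro d hd
    rw [hmem] at hd ⊢
    split_ifs with h
    · obtain ⟨e, rfl⟩ := h
      rw [Nat.mul_div_cancel_left _ hr.pos]
      exact ⟨(dvd_mul_left _ _).trans hd.1, hd.2.1.squarefree_of_dvd (dvd_mul_left _ _),
        (Nat.prime_two.dvd_mul.1 hd.2.2).resolve_left h2r⟩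
    · have hc := hr.coprime_iff_not_dvd.2 h
      exact ⟨hc.mul_dvd_of_dvd_of_dvd hrm hd.1,
        (Nat.squarefree_mul hc).2 ⟨hr.squarefree, hd.2.1⟩, hd.2.2.mul_left r⟩
  · intro d hd
    rw [hmem] at hd
    by_cases h : r ∣ d
    · obtain ⟨e, rfl⟩ := h
      have hre : ¬ r ∣ e := fun h' => hr.ne_one (Nat.isUnit_iff.1 (hd.2.1 r (Nat.mul_dvd_mul_left r h')))
      simp [Nat.mul_div_cancel_left _ hr.pos, hre]
    · simp [h, Nat.mul_div_cancel_left _ hr.pos]

section Char

/-- The standard primitive character of the rotations. -/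
noncomputable def chr (x : ZMod m) : ℂ := ZMod.stdAddChar x

theorem chr_zero : chr (0 : ZMod m) = 1 := AddChar.map_zero_eq_one _

theorem chr_add (x y : ZMod m) : chr (x + y) = chr x * chr y := AddChar.map_add_eq_mul _ x y

theorem chr_injective : Function.Injective (chr : ZMod m → ℂ) := ZMod.injective_stdAddChar

/-- Evaluation at the standard primitive character. -/
noncomputable def chi (u : K m ℤ) : ℂ := ∑ x, (u.coeff x : ℂ) * chr x

theorem chi_mul (u v : K m ℤ) : chi (u * v) = chi u * chi v := by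
  simp only [chi, coeff_mul', Int.cast_sum, Int.cast_mul, Finset.sum_mul]
  rw [Finset.sum_comm]
  refine Finset.sum_congr rfl fun y _ => ?_
  rw [Finset.mul_sum, ← Equiv.sum_comp (Equiv.addRight y)]
  refine Finset.sum_congr rfl fun z _ => ?_
  rw [Equiv.coe_addRight, add_sub_cancel_right, chr_add]
  ring

theorem chi_add (u v : K m ℤ) : chi (u + v) = chi u + chi v := by
  simp [chi, add_mul, Finset.sum_add_distrib]

theorem sum_chr_ker {n : ℕ} (hn : n ∣ m) :
    ∑ x ∈ univ.filter (fun x : ZMod m => n • x = 0), chr x = if n = 1 then 1 else 0 := by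
  split_ifs with h
  · rw [h, show univ.filter (fun x : ZMod m => 1 • x = 0) = {0} by ext; simp, Finset.sum_singleton,
      chr_zero]
  obtain ⟨t, ht⟩ := exists_order (m := m) hn
  have ht0 : t ≠ 0 := fun h0 => h (by rw [← ht, h0, addOrderOf_zero])
  have h1 : chr t ≠ 1 := fun h1 => ht0 (chr_injective (by rw [h1, chr_zero]))
  have htn : n • t = 0 := by rw [← ht]; exact addOrderOf_nsmul_eq_zero t
  set S0 := ∑ x ∈ univ.filter (fun x : ZMod m => n • x = 0), chr x
  have h2 : chr t * S0 = S0 := by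
    rw [Finset.mul_sum]
    refine Finset.sum_equiv (Equiv.addLeft t) (fun x => ?_) fun x _ => (chr_add t x).symm
    simp only [Finset.mem_filter, Finset.mem_univ, true_and, Equiv.coe_addLeft, nsmul_add, htn,
      zero_add]
  exact (mul_right_eq_self₀.1 (by rw [mul_comm]; exact h2)).resolve_left h1

theorem sum_chr_order : ∀ {d : ℕ}, d ∣ m →
    ∑ x ∈ univ.filter (fun x : ZMod m => addOrderOf x = d), chr x = (ArithmeticFunction.moebius d : ℂ) := by
  intro d
  induction d using Nat.strong_induction_on with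
  | _ d ih =>
    intro hd
    have hd0 : d ≠ 0 := fun h => NeZero.ne m (Nat.eq_zero_of_zero_dvd (h ▸ hd))
    have h1 : ∑ e ∈ d.divisors, ∑ x ∈ univ.filter (fun x : ZMod m => addOrderOf x = e), chr x =
        if d = 1 then 1 else 0 := by
      rw [← sum_chr_ker hd]
      rw [← Finset.sum_fiberwise_of_maps_to (g := addOrderOf) (t := d.divisors) fun x hx =>
        Nat.mem_divisors.2 ⟨addOrderOf_dvd_iff_nsmul_eq_zero.2 (Finset.mem_filter.1 hx).2, hd0⟩]
      refine Finset.sum_congr rfl fun e he => ?_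
      rw [Finset.filter_filter]
      refine Finset.sum_congr (Finset.filter_congr fun x _ => ?_) fun _ _ => rfl
      exact ⟨fun h => ⟨addOrderOf_dvd_iff_nsmul_eq_zero.1 (h ▸ (Nat.mem_divisors.1 he).1), h⟩, And.right⟩
    have h2 : ∑ e ∈ d.divisors, (ArithmeticFunction.moebius e : ℂ) = if d = 1 then 1 else 0 := by
      rw [← Int.cast_sum, sum_moebius hd0]
      split_ifs <;> simp
    rw [← h2, ← Finset.add_sum_erase _ _ (Nat.mem_divisors.2 ⟨dvd_rfl, hd0⟩),
      ← Finset.add_sum_erase _ _ (Nat.mem_divisors.2 ⟨dvd_rfl, hd0⟩)] at h1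
    have h3 : ∑ e ∈ d.divisors.erase d, ∑ x ∈ univ.filter (fun x : ZMod m => addOrderOf x = e), chr x =
        ∑ e ∈ d.divisors.erase d, (ArithmeticFunction.moebius e : ℂ) := by
      refine Finset.sum_congr rfl fun e he => ?_
      rw [Finset.mem_erase, Nat.mem_divisors] at he
      exact ih e (lt_of_le_of_ne (Nat.le_of_dvd (Nat.pos_of_ne_zero hd0) he.2.1) he.1) (he.2.1.trans hd)
    rw [h3] at h1
    exact add_right_cancel h1

theorem chi_rat {a : K m ℤ} (g : ℕ → ℤ) (hg : ∀ x, a.coeff x = g (addOrderOf x)) :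
    chi a = ((∑ d ∈ m.divisors, ArithmeticFunction.moebius d * g d : ℤ) : ℂ) := by
  rw [chi, ← Finset.sum_fiberwise_of_maps_to (g := addOrderOf) (t := m.divisors)
    fun x _ => Nat.mem_divisors.2 ⟨order_dvd x, NeZero.ne m⟩]
  push_cast
  refine Finset.sum_congr rfl fun d hd => ?_
  rw [← sum_chr_order (Nat.mem_divisors.1 hd).1, Finset.sum_mul]
  refine Finset.sum_congr rfl fun x hx => ?_
  rw [hg, (Finset.mem_filter.1 hx).2, mul_comm]

/-- The character value of a rational invariant element. -/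
theorem exists_chi_eq (hm : 1 < m) : ∃ u, u ∣ m ∧ u ≠ 1 ∧
    (∀ q, q.Prime → q ∣ m → q ≠ 2 → S.Same u q) ∧ ((∀ q, q.Prime → q ∣ m → q = 2) → u = 2) ∧
    ∀ a b : K m ℤ, S.Adm a b → IsRat a → ∀ v, addOrderOf v = u →
      chi a = ((a.coeff 0 - a.coeff v : ℤ) : ℂ) := by
  classical
  obtain ⟨u, hum, hu1, hodd, htwo, hcomb⟩ := exists_comb (S := S) hm
  refine ⟨u, hum, hu1, hodd, htwo, fun a b hab ha v hv => ?_⟩
  let g : ℕ → ℤ := fun d => if h : ∃ x : ZMod m, addOrderOf x = d then a.coeff h.choose else 0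
  have hg : ∀ x, a.coeff x = g (addOrderOf x) := fun x => by
    have h : ∃ y : ZMod m, addOrderOf y = addOrderOf x := ⟨x, rfl⟩
    simp only [g, dif_pos h]
    exact ha _ _ h.choose_spec.symm
  rw [chi_rat g hg, hcomb g fun d e hd he _ _ hs => ?_]
  · rw [hg 0, hg v, hv, addOrderOf_zero]
  · obtain ⟨x, rfl⟩ := exists_order (m := m) hd
    obtain ⟨y, rfl⟩ := exists_order (m := m) he
    rw [← hg, ← hg]
    exact Sys.eq_of_same (F := pairF a b) hab (fun v w h => ha v w h) hs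

end Char

end H88.Dih
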