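import Cfsg.Agent.H88.Dihedral.Classes

/-!
The union of the classes other than the comparison class would be a design of a degenerate kind,
which cannot exist.
-/

set_option autoImplicit false
set_option linter.style.haveILetI false
set_option linter.unusedSectionVars false

namespace H88.Dih

open DihedralGroup Finset

variable {m : ℕ} [NeZero m] {S : Sys m}

/-- An invariant set whose square has constant values off the identity. -/
structure Dsgn (T : Blk S) (s mu : ℤ) : Prop where
  sqC : ∀ g, (T.sqC g : ℤ) = (if g = 0 then s else 0) + mu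
  sqR : ∀ g, (T.sqR g : ℤ) = mu
  chiY : chi (star' (ind ℤ T.Y)) * chi (ind ℤ T.Y) = (s : ℂ)

/-- The complement of a class, without the identity. -/
noncomputable def Blk.compl (T : Blk S) : Blk S where
  X := univ.filter fun x => x ≠ 0 ∧ x ∉ T.X
  Y := univ.filter fun y => y ∉ T.Y
  adm := by
    classical
    have h : S.Inv fun z => if z = 1 then (0 : ℤ) else if pairF (ind ℤ T.X) (ind ℤ T.Y) z = 0 then 1 else 0 :=
      (T.adm.comp fun v => if v = 0 then (1 : ℤ) else 0).punct 0
    convert Sys.adm_of_inv h using 1 <;> refine K.ext fun x => ?_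
    · simp only [ind_coeff, el_coeff, Finset.mem_filter, Finset.mem_univ, true_and, pairF_r]
      by_cases hx : x = 0
      · subst hx
        simp [show (r 0 : DihedralGroup m) = 1 from one_def.symm]
      · rw [if_neg (c := (r x = 1)) (by rw [one_def, r.injEq]; exact hx)]
        by_cases hxT : x ∈ T.X <;> simp [hx, hxT]
    · simp only [ind_coeff, el_coeff, Finset.mem_filter, Finset.mem_univ, true_and, pairF_sr]
      rw [if_neg (c := (sr x = 1)) (fun h => by cases h)]
      by_cases hxT : x ∈ T.Y <;> simp [hxT]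
  rat x y h := by
    simp only [Finset.mem_filter, Finset.mem_univ, true_and, T.rat x y h, ne_eq]
    rw [← AddMonoid.addOrderOf_eq_one_iff, h, AddMonoid.addOrderOf_eq_one_iff]
  zero := by simp

theorem Blk.mem_compl {T : Blk S} {x : ZMod m} : x ∈ T.compl.X ↔ x ≠ 0 ∧ x ∉ T.X := by
  simp [Blk.compl]

theorem exists_design (hm : 1 < m) (hsep : ¬ ∀ d e, d ∣ m → e ∣ m → d ≠ 1 → e ≠ 1 → S.Same d e) :
    ∃ (T : Blk S) (s mu : ℤ) (v : ZMod m), v ≠ 0 ∧ v ∉ T.X ∧ T.X.Nonempty ∧
      (∀ q, q.Prime → q ≠ 2 → ∀ x, addOrderOf x = q → x ∉ T.X) ∧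
      ((∀ q, q.Prime → q ∣ m → q = 2) → ∀ x, addOrderOf x = 2 → x ∉ T.X) ∧ Dsgn T s mu := by
  classical
  obtain ⟨u, hum, hu1, hodd, htwo, hchi⟩ := exists_chi_eq (S := S) hm
  obtain ⟨v, hv⟩ := exists_order (m := m) hum
  have hv0 : v ≠ 0 := fun h => hu1 (by rw [← hv, h, addOrderOf_zero])
  set T := (Blk.cls S u).compl with hT
  have hout : ∀ x, S.Same u (addOrderOf x) → x ∉ T.X := fun x hx h => by
    rw [hT, Blk.mem_compl, Blk.mem_cls] at h
    exact h.2 ⟨h.1, hx⟩
  have hvX : v ∉ T.X := hout v (by rw [hv]; exact Sys.Same.refl u)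
  have hne : T.X.Nonempty := by
    push Not at hsep
    obtain ⟨d, e, hd, he, hd1, he1, hde⟩ := hsep
    have : ¬ S.Same u d ∨ ¬ S.Same u e := not_and_or.1 fun h => hde (h.1.symm.trans h.2)
    have key : ∀ f, f ∣ m → f ≠ 1 → ¬ S.Same u f → T.X.Nonempty := fun f hf hf1 hn => by
      obtain ⟨x, rfl⟩ := exists_order (m := m) hf
      refine ⟨x, ?_⟩
      rw [hT, Blk.mem_compl, Blk.mem_cls]
      exact ⟨fun h => hf1 (AddMonoid.addOrderOf_eq_one_iff.2 h), fun h => hn h.2⟩
    rcases this with h | h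
    · exact key d hd hd1 h
    · exact key e he he1 h
  have h0 : chi (ind ℤ T.X) = 0 := by
    rw [hchi _ _ T.adm T.isRat v hv]
    simp [T.zero, hvX]
  set Q : K m ℤ := el fun g => (T.sqC g : ℤ) with hQ
  set s : ℤ := Q.coeff 0 - Q.coeff v with hs
  have hQs : chi Q = (s : ℂ) := hchi _ _ (T.sq_adm ℤ) (T.sq_isRat hm) v hv
  have hQsplit : Q = ind ℤ T.X * ind ℤ T.X + star' (ind ℤ T.Y) * ind ℤ T.Y := by
    refine K.ext fun g => ?_
    rw [hQ, el_coeff, AddMonoidAlgebra.coeff_add, Finsupp.add_apply, star'_ind_mul, T.X_mul_coeff ℤ]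
    simp [Blk.sqC]
  have hRsplit : el (fun g => (T.sqR g : ℤ)) =
      ind ℤ T.X * ind ℤ T.Y + ind ℤ T.Y * ind ℤ T.X := by
    refine K.ext fun g => ?_
    rw [el_coeff, AddMonoidAlgebra.coeff_add, Finsupp.add_apply, mul_comm (ind ℤ T.Y), T.X_mul_coeff ℤ]
    simp [Blk.sqR, two_mul]
  have hYs : chi (star' (ind ℤ T.Y)) * chi (ind ℤ T.Y) = (s : ℂ) := by
    rw [← hQs, hQsplit, chi_add, chi_mul, chi_mul, h0]
    ring
  -- the corrected square
  set a : K m ℤ := el fun g => (T.sqC g : ℤ) - if g = 0 then s else 0 with ha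
  set b : K m ℤ := el fun g => (T.sqR g : ℤ) with hb
  have hab : S.Adm a b := by
    have h := (T.sq_adm ℤ).comp₂ (Sys.inv_delta s 0) fun x y => x - y
    have he : pairF a b = fun z => pairF (el fun g => (T.sqC g : ℤ)) (el fun g => (T.sqR g : ℤ)) z -
        if z = 1 then s else 0 := by
      funext z
      rcases z with i | i
      · have h1 : (r i = (1 : DihedralGroup m)) ↔ i = 0 := by rw [one_def, r.injEq]
        simp only [pairF_r, ha, el_coeff, h1]
      · have h1 : (sr i : DihedralGroup m) ≠ 1 := fun h => by cases h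
        simp [hb, h1]
    rw [Sys.Adm, he]
    exact h
  have harat : IsRat a := fun x y hxy => by
    have h1 := T.sq_isRat hm x y hxy
    simp only [el_coeff] at h1
    simp only [ha, el_coeff, h1]
    congr 1
    exact if_congr (by rw [← AddMonoid.addOrderOf_eq_one_iff, hxy, AddMonoid.addOrderOf_eq_one_iff]) rfl rfl
  have hchia : chi a = 0 := by
    rw [hchi a b hab harat v hv, Int.cast_eq_zero, ha, el_coeff, el_coeff, if_pos rfl, if_neg hv0,
      hs, hQ, el_coeff, el_coeff]
    ring
  have hchib : chi b = 0 := by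
    rw [hRsplit, chi_add, chi_mul, chi_mul, h0]
    ring
  have hP := hchi _ _ (hab.mul hab) (hab.mul_isRat hm harat hab harat) v hv
  rw [chi_add, chi_mul, chi_mul, hchia, hchib, mul_zero, mul_zero, add_zero, eq_comm,
    Int.cast_eq_zero, sub_eq_zero] at hP
  have hval : ∀ g, (a * a + star' b * b).coeff g =
      (∑ y, a.coeff y * a.coeff (y - g)) + ∑ y, b.coeff y * b.coeff (y + g) := by
    intro g
    rw [AddMonoidAlgebra.coeff_add, Finsupp.add_apply, coeff_mul', coeff_mul']
    congr 1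
    · exact Finset.sum_congr rfl fun y _ => by rw [← hab.symm (y - g), neg_sub]
    · refine Fintype.sum_equiv (Equiv.neg _) _ _ fun y => ?_
      rw [star'_coeff, Equiv.neg_apply, sub_eq_add_neg, add_comm g]
  rw [hval, hval] at hP
  simp only [sub_zero, add_zero] at hP
  have e1 : ∑ y, a.coeff (y - v) * a.coeff (y - v) = ∑ y, a.coeff y * a.coeff y :=
    Equiv.sum_comp (Equiv.subRight v) fun y => a.coeff y * a.coeff y
  have e2 : ∑ y, b.coeff (y + v) * b.coeff (y + v) = ∑ y, b.coeff y * b.coeff y :=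
    Equiv.sum_comp (Equiv.addRight v) fun y => b.coeff y * b.coeff y
  have hzero : (∑ y, (a.coeff y - a.coeff (y - v)) * (a.coeff y - a.coeff (y - v))) +
      ∑ y, (b.coeff y - b.coeff (y + v)) * (b.coeff y - b.coeff (y + v)) = 0 := by
    simp only [sub_mul, mul_sub, Finset.sum_sub_distrib, mul_comm (a.coeff (_ - v)) (a.coeff _),
      mul_comm (b.coeff (_ + v)) (b.coeff _)]
    linarith [e1, e2, hP]
  rw [add_eq_zero_iff_of_nonneg (Finset.sum_nonneg fun _ _ => mul_self_nonneg _)
    (Finset.sum_nonneg fun _ _ => mul_self_nonneg _)] at hzero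
  have ha' : ∀ y, a.coeff (y - v) = a.coeff y := fun y => by
    have h := (Finset.sum_eq_zero_iff_of_nonneg fun _ _ => mul_self_nonneg _).1 hzero.1 y (Finset.mem_univ y)
    rw [mul_self_eq_zero, sub_eq_zero] at h
    exact h.symm
  have hb' : ∀ y, b.coeff (y + v) = b.coeff y := fun y => by
    have h := (Finset.sum_eq_zero_iff_of_nonneg fun _ _ => mul_self_nonneg _).1 hzero.2 y (Finset.mem_univ y)
    rw [mul_self_eq_zero, sub_eq_zero] at h
    exact h.symm
  have hconst : ∀ z w, pairF a b z = pairF a b w := by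
    refine Sys.Inv.const_of_translate hab (d := r v) (fun h => hv0 (by rw [one_def, r.injEq] at h; exact h)) ?_
    rintro (j | j)
    · rw [r_mul_r, pairF_r, pairF_r, ← ha' (v + j), add_sub_cancel_left]
    · rw [r_mul_sr, pairF_sr, pairF_sr, ← hb' (j - v), sub_add_cancel]
  refine ⟨T, s, pairF a b (sr 0), v, hv0, hvX, hne, fun q hq hq2 x hx => hout x ?_,
    fun h2 x hx => hout x (by rw [hx, htwo h2]; exact Sys.Same.refl 2), fun g => ?_, fun g => ?_, hYs⟩
  · rw [hx]; exact hodd q hq (hx ▸ order_dvd x) hq2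
  · rw [← hconst (r g), pairF_r, ha, el_coeff]; ring
  · rw [← hconst (sr g), pairF_sr, hb, el_coeff]

end H88.Dih
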