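import Cfsg.Agent.H88.Dihedral.KillTwo

/-!
Every class of an odd prime order meets all odd primes.
-/

set_option autoImplicit false
set_option linter.style.haveILetI false
set_option linter.unusedSectionVars false

namespace H88.Dih

open DihedralGroup Finset

variable {m : ℕ} [NeZero m] {S : Sys m}

/-- Splitting a pair of orders by an odd prime. -/
theorem Sys.frob_split (hm : 1 < m) {q : ℕ} (hq : q.Prime) (hq2 : q ≠ 2) (hqm : q ∣ m) {d e : ℕ}
    (hqd : ¬ q ∣ d) (hne : ¬ S.Same d (q * d)) (he : S.Same d e) :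
    ¬ q ∣ e ∧ S.Same (q * d) (q * e) := by
  have h := (((S.good_same (q * d)).frob hm hq hq2 hqm))
  have hd : ¬ q ∣ d ∧ ¬ (S.Same (q * d) d ↔ S.Same (q * d) (q * d)) :=
    ⟨hqd, fun hh => hne (hh.2 (Sys.Same.refl _)).symm⟩
  obtain ⟨h1, h2⟩ := (he _ h).1 hd
  refine ⟨h1, ?_⟩
  by_contra h3
  exact h2 ⟨fun h4 => absurd (he.trans h4.symm) hne, fun h4 => absurd h4 h3⟩

theorem order_add_mul {q : ℕ} (hq : q.Prime) {v w : ZMod m} (hw : addOrderOf w = q)
    (hv : ¬ q ∣ addOrderOf v) : addOrderOf (v + w) = q * addOrderOf v := by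
  rw [(AddCommute.all v w).addOrderOf_add_eq_mul_addOrderOf_of_coprime
    (by rw [hw]; exact (hq.coprime_iff_not_dvd.2 hv).symm), hw, mul_comm]

theorem order_add_eq {q : ℕ} (hq : q.Prime) {v w : ZMod m} (hw : addOrderOf w = q)
    (hv : q ∣ addOrderOf v) :
    addOrderOf (v + w) = addOrderOf v ∨
      ¬ q ∣ addOrderOf (v + w) ∧ q * addOrderOf (v + w) = addOrderOf v := by
  by_cases h : q ∣ addOrderOf (v + w)
  · left
    have key : ∀ {u : ZMod m}, q ∣ addOrderOf u → addOrderOf u = q * addOrderOf (q • u) := by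
      intro u hu
      rw [addOrderOf_nsmul, Nat.gcd_eq_right hu, Nat.mul_div_cancel' hu]
    rw [key h, key hv, nsmul_add, ← hw, addOrderOf_nsmul_eq_zero, add_zero]
  · right
    refine ⟨h, ?_⟩
    have := order_add_mul hq (v := v + w) (w := -w) (by rw [addOrderOf_neg, hw]) h
    rw [add_neg_cancel_right] at this
    exact this.symm

theorem cnt_zero (Y : Finset (ZMod m)) : cnt Y Y 0 = Y.card := by
  rw [cnt, Finset.filter_eq_self.2]
  intro v hv
  rwa [add_zero]

variable (q : ℕ)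

/-- The elements killed by `q`. -/
def Wf : Finset (ZMod m) := univ.filter fun w => q • w = 0

variable {q}

theorem mem_Wf {w : ZMod m} : w ∈ (Wf q : Finset (ZMod m)) ↔ q • w = 0 := by simp [Wf]

theorem Wf_cases (hq : q.Prime) {w : ZMod m} :
    w ∈ (Wf q : Finset (ZMod m)) ↔ w = 0 ∨ addOrderOf w = q := by
  rw [mem_Wf]
  constructor
  · intro h
    rcases (Nat.dvd_prime hq).1 (addOrderOf_dvd_iff_nsmul_eq_zero.2 h) with h' | h'
    · exact Or.inl (AddMonoid.addOrderOf_eq_one_iff.1 h')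
    · exact Or.inr h'
  · rintro (rfl | h)
    · exact nsmul_zero q
    · rw [← h, addOrderOf_nsmul_eq_zero]

theorem nu_shift (Y : Finset (ZMod m)) {w : ZMod m} (hw : w ∈ (Wf q : Finset (ZMod m))) (z : ZMod m) :
    cnt (Wf q) Y (z + w) = cnt (Wf q) Y z :=
  cnt_shift Y (fun v => by rw [mem_Wf, mem_Wf, nsmul_add, mem_Wf.1 hw, add_zero]) z

theorem sum_nu_mul (Y : Finset (ZMod m)) (hc : (Wf q : Finset (ZMod m)).card = q) (f : ZMod m → ℕ)
    (hf : ∀ z, ∀ w ∈ (Wf q : Finset (ZMod m)), f (z + w) = f z) :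
    ∑ z, cnt (Wf q) Y z * f z = q * ∑ y ∈ Y, f y := by
  calc ∑ z, cnt (Wf q) Y z * f z
      = ∑ z, ∑ w ∈ (Wf q : Finset (ZMod m)), if w + z ∈ Y then f z else 0 := by
        refine Finset.sum_congr rfl fun z _ => ?_
        rw [← Finset.sum_filter, Finset.sum_const, smul_eq_mul]
        rfl
    _ = ∑ w ∈ (Wf q : Finset (ZMod m)), ∑ y ∈ Y, f y := by
        rw [Finset.sum_comm]
        refine Finset.sum_congr rfl fun w hw => ?_
        rw [← Finset.sum_filter]
        refine Finset.sum_nbij' (fun z => w + z) (fun y => y - w) (fun z hz => (Finset.mem_filter.1 hz).2)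
          (fun y hy => by simp [hy]) (fun z _ => by simp) (fun y _ => by simp) fun z _ => ?_
        rw [add_comm, hf z w hw]
    _ = q * ∑ y ∈ Y, f y := by rw [Finset.sum_const, hc, smul_eq_mul]

theorem sum_nu (Y : Finset (ZMod m)) :
    ∑ y ∈ Y, cnt (Wf q) Y y = ∑ w ∈ (Wf q : Finset (ZMod m)), cnt Y Y w := (sum_cnt Y Y _).symm

theorem sum_nu_const (hq : q.Prime) (hqm : q ∣ m) (Y : Finset (ZMod m)) {a : ℕ}
    (ha : ∀ w, addOrderOf w = q → cnt Y Y w = a) :
    ∑ y ∈ Y, cnt (Wf q) Y y = Y.card + (q - 1) * a := by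
  have h0 : (0 : ZMod m) ∈ (Wf q : Finset (ZMod m)) := mem_Wf.2 (nsmul_zero q)
  rw [sum_nu, ← Finset.insert_erase h0, Finset.sum_insert (Finset.notMem_erase _ _), cnt_zero,
    Finset.sum_congr rfl (g := fun _ => a), Finset.sum_const, smul_eq_mul,
    Finset.card_erase_of_mem h0, Wf, card_ker_filter hqm]
  intro w hw
  rw [Finset.mem_erase, Wf_cases hq] at hw
  exact ha w (hw.2.resolve_left hw.1)

theorem sum_shift_nu {A : Finset (ZMod m)} (Y : Finset (ZMod m))
    (hc : (Wf q : Finset (ZMod m)).card = q)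
    (hA : ∀ v ∈ A, ∀ w ∈ (Wf q : Finset (ZMod m)), v + w ∈ A) (z : ZMod m) :
    ∑ v ∈ A, cnt (Wf q) Y (z + v) = q * cnt A Y z := by
  have h : ∑ v ∈ A, cnt (Wf q) Y (z + v) = ∑ w ∈ (Wf q : Finset (ZMod m)), cnt A Y (w + z) := by
    simp only [cnt, Finset.card_filter]
    rw [Finset.sum_comm]
    exact Finset.sum_congr rfl fun w _ => Finset.sum_congr rfl fun v _ =>
      if_congr (by rw [show w + (z + v) = v + (w + z) by abel]) rfl rfl
  rw [h, Finset.sum_congr rfl (g := fun _ => cnt A Y z), Finset.sum_const, hc, smul_eq_mul]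
  intro w hw
  rw [add_comm]
  refine cnt_shift Y (fun v => ⟨fun hv => hA v hv w hw, fun hv => ?_⟩) z
  have h2 := hA _ hv (-w) (by rw [mem_Wf, neg_nsmul, mem_Wf.1 hw, neg_zero])
  rwa [add_neg_cancel_right] at h2

/-- Cauchy bound over cosets of the subgroup of order `q`. -/
theorem coset_bound {A Y : Finset (ZMod m)} (hc : (Wf q : Finset (ZMod m)).card = q)
    (hA : ∀ v ∈ A, ∀ w ∈ (Wf q : Finset (ZMod m)), v + w ∈ A) {c1 : ℕ}
    (hc1 : ∀ y ∈ Y, cnt A Y y = c1) :
    q * (q * (Y.card * c1)) ≤ q * (A.card * ∑ y ∈ Y, cnt (Wf q) Y y) := by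
  set ν := fun z => cnt (Wf q) Y z with hν
  have h1 : q * (q * (Y.card * c1)) = ∑ v ∈ A, ∑ z, ν z * ν (z + v) := by
    rw [Finset.sum_congr rfl (fun v _ => sum_nu_mul Y hc (fun z => ν (z + v)) fun z w hw => by
      show ν (z + w + v) = ν (z + v)
      rw [add_right_comm]; exact nu_shift Y hw _), ← Finset.mul_sum, Finset.sum_comm,
      Finset.sum_congr rfl (g := fun _ => q * c1), Finset.sum_const, smul_eq_mul]
    · ring
    · intro y hy
      rw [sum_shift_nu Y hc hA, hc1 y hy]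
  have h2 : ∑ z, ν z * ν z = q * ∑ y ∈ Y, ν y :=
    sum_nu_mul Y hc ν fun z w hw => nu_shift Y hw z
  have h3 : ∀ v ∈ A, 2 * ∑ z, ν z * ν (z + v) ≤ 2 * ∑ z, ν z * ν z := by
    intro v _
    rw [Finset.mul_sum, two_mul (∑ z, ν z * ν z)]
    conv_rhs => enter [2]; rw [← Equiv.sum_comp (Equiv.addRight v) fun z => ν z * ν z]
    rw [← Finset.sum_add_distrib]
    exact Finset.sum_le_sum fun z _ => by
      simp only [Equiv.coe_addRight]
      nlinarith [sq_nonneg ((ν z : ℤ) - ν (z + v))]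
  have h4 := Finset.sum_le_sum h3
  rw [← Finset.mul_sum, Finset.sum_const, smul_eq_mul, h2, ← h1] at h4
  nlinarith

/-- The inequality when the class is invariant under translations of order `q`. -/
theorem nat_invariant {q k C H a : ℕ} (hq : 3 ≤ q) (hk : 2 * C ≤ k) (hH : 0 < H)
    (ha : a + H = 2 * C) (h : q * (k * C) ≤ H * (k + (q - 1) * a)) : False := by
  obtain ⟨t, rfl⟩ : ∃ t, q = t + 3 := ⟨q - 3, by omega⟩
  obtain ⟨d, rfl⟩ := Nat.exists_eq_add_of_le hk
  rw [show t + 3 - 1 = t + 2 by omega] at h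
  have hC : H ≤ 2 * C := by omega
  have h1 : d * H ≤ d * ((t + 3) * C) := Nat.mul_le_mul_left d (hC.trans (Nat.mul_le_mul_right C (by omega)))
  have h2 : H * a + H * H = H * (2 * C) := by rw [← mul_add, ha]
  nlinarith [sq_nonneg ((C : ℤ) * 2 - H), Nat.mul_pos hH hH]

/-- The inequality comparing a class with a smaller one. -/
theorem nat_compare {r k M h0 a : ℕ} (hr : 3 ≤ r) (hk : 2 * h0 ≤ k) (hh : 0 < h0)
    (hM : 2 * M = h0 + a) (h : k * (r * (M * M)) ≤ h0 * h0 * ((r - 1) * a) + k * (h0 * M)) :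
    False := by
  obtain ⟨t, rfl⟩ : ∃ t, r = t + 3 := ⟨r - 3, by omega⟩
  rw [show t + 3 - 1 = t + 2 by omega] at h
  obtain ⟨d, rfl⟩ := Nat.exists_eq_add_of_le hk
  have h1 : h0 * M ≤ (t + 3) * (M * M) := by
    have h3 : h0 ≤ 2 * M := by omega
    calc h0 * M ≤ 2 * M * M := Nat.mul_le_mul_right M h3
      _ ≤ (t + 3) * (M * M) := by rw [mul_assoc]; exact Nat.mul_le_mul_right _ (by omega)
  have h2 := Nat.mul_le_mul_left d h1
  have e1 : (2 * M) * (2 * M) = (h0 + a) * (h0 + a) := by rw [hM]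
  have e2 : 0 < h0 * (h0 * h0) := Nat.mul_pos hh (Nat.mul_pos hh hh)
  have e1' : (t + 3) * (h0 * (2 * M * (2 * M))) = (t + 3) * (h0 * ((h0 + a) * (h0 + a))) := by rw [e1]
  have e3 : h0 * h0 * (2 * M) = h0 * h0 * (h0 + a) := by rw [hM]
  nlinarith [Nat.zero_le (h0 * (a * a)), Nat.zero_le (t * (h0 * (a * a))),
    Nat.zero_le (t * (h0 * (h0 * h0)))]

/-- Primes met by the class of `q`. -/
noncomputable def suppP (S : Sys m) (q : ℕ) : Finset ℕ := by
  classical exact m.primeFactors.filter fun p => ∃ d, d ∣ m ∧ S.Same q d ∧ p ∣ d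

theorem mem_suppP {q p : ℕ} :
    p ∈ suppP S q ↔ p.Prime ∧ p ∣ m ∧ ∃ d, d ∣ m ∧ S.Same q d ∧ p ∣ d := by
  classical
  simp [suppP, Nat.mem_primeFactors, NeZero.ne m, and_assoc]

theorem suppP_congr {q q' : ℕ} (h : S.Same q q') : suppP S q = suppP S q' := by
  ext p
  rw [mem_suppP, mem_suppP]
  exact ⟨fun ⟨a, b, d, c, e, f⟩ => ⟨a, b, d, c, h.symm.trans e, f⟩,
    fun ⟨a, b, d, c, e, f⟩ => ⟨a, b, d, c, h.trans e, f⟩⟩

theorem not_mem_suppP_of_frob {P : ℕ → Prop} {q d : ℕ} (hP : S.Good fun e => ¬ q ∣ e ∧ P e)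
    (hd : ¬ q ∣ d ∧ P d) : q ∉ suppP S d := fun h => by
  obtain ⟨-, -, e, -, he, hqe⟩ := mem_suppP.1 h
  exact ((he _ hP).1 hd).1 hqe

/-- The prime structure of a class with fewest primes among those missing an odd prime. -/
theorem exists_minimal_counter (hm : 1 < m) {q p : ℕ} (hq : q.Prime) (hq2 : q ≠ 2) (hqm : q ∣ m)
    (hp : p.Prime) (hp2 : p ≠ 2) (hpm : p ∣ m) (hno : p ∉ suppP S q) :
    ∃ q p : ℕ, q.Prime ∧ q ≠ 2 ∧ q ∣ m ∧ p.Prime ∧ p ≠ 2 ∧ p ∣ m ∧ p ∉ suppP S q ∧
      ∀ r ∈ suppP S q, r ≠ 2 → r ≤ q ∧ S.Same q r := by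
  classical
  have hex : ∃ n, ∃ q p : ℕ, q.Prime ∧ q ≠ 2 ∧ q ∣ m ∧ p.Prime ∧ p ≠ 2 ∧ p ∣ m ∧
      p ∉ suppP S q ∧ (suppP S q).card = n := ⟨_, q, p, hq, hq2, hqm, hp, hp2, hpm, hno, rfl⟩
  clear! q p
  obtain ⟨q, p, hq, hq2, hqm, hp, hp2, hpm, hno, hcard⟩ := Nat.find_spec hex
  have hmin : ∀ r, r.Prime → r ≠ 2 → r ∣ m → (suppP S r).card < (suppP S q).card →
      ∀ l, l.Prime → l ≠ 2 → l ∣ m → l ∈ suppP S r := fun r hr hr2 hrm hlt l hl hl2 hlm => by
    by_contra hh
    exact Nat.find_min hex (hcard ▸ hlt) ⟨r, l, hr, hr2, hrm, hl, hl2, hlm, hh, rfl⟩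
  have hsame : ∀ r ∈ suppP S q, r ≠ 2 → S.Same q r := by
    intro r hr hr2
    obtain ⟨hrp, hrm, e, hem, hqe, hre⟩ := mem_suppP.1 hr
    by_cases hrq : r = q
    · rw [hrq]; exact Sys.Same.refl (S := S) q
    have hqr : S.Same q (r * q) := by
      by_contra hh
      exact (S.frob_split hm hrp hr2 hrm (fun h => hrq ((Nat.prime_dvd_prime_iff_eq hrp hq).1 h)) hh hqe).1 hre
    by_contra hh
    have hP := (S.good_same q).frob hm hq hq2 hqm
    have hr' : ¬ q ∣ r ∧ ¬ (S.Same q r ↔ S.Same q (q * r)) :=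
      ⟨fun h => hrq ((Nat.prime_dvd_prime_iff_eq hq hrp).1 h).symm,
        fun h => hh (h.2 (by rwa [mul_comm]))⟩
    have hqout : q ∉ suppP S r := not_mem_suppP_of_frob hP hr'
    refine hqout (hmin r hrp hr2 hrm (Finset.card_lt_card ⟨fun l hl => ?_, fun hsub => ?_⟩) q hq hq2 hqm)
    · obtain ⟨hlp, hlm, f, hfm, hrf, hlf⟩ := mem_suppP.1 hl
      obtain ⟨hqf, hf⟩ := (hrf _ hP).1 hr'
      refine mem_suppP.2 ⟨hlp, hlm, ?_⟩
      by_cases h1 : S.Same q f
      · exact ⟨f, hfm, h1, hlf⟩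
      · exact ⟨q * f, (hq.coprime_iff_not_dvd.2 hqf).mul_dvd_of_dvd_of_dvd hqm hfm,
          not_not.1 fun h2 => hf ⟨fun h3 => absurd h3 h1, fun h3 => absurd h3 h2⟩, hlf.mul_left q⟩
    · exact hqout (hsub (mem_suppP.2 ⟨hq, hqm, q, hqm, Sys.Same.refl q, dvd_rfl⟩))
  obtain ⟨q', hq', hmax⟩ := ((suppP S q).filter fun r => r ≠ 2).exists_max_image id
    ⟨q, Finset.mem_filter.2 ⟨mem_suppP.2 ⟨hq, hqm, q, hqm, Sys.Same.refl q, dvd_rfl⟩, hq2⟩⟩
  rw [Finset.mem_filter] at hq'
  have hs := hsame q' hq'.1 hq'.2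
  obtain ⟨hq'p, hq'm, -⟩ := mem_suppP.1 hq'.1
  refine ⟨q', p, hq'p, hq'.2, hq'm, hp, hp2, hpm, suppP_congr hs ▸ hno, fun r hr hr2 => ?_⟩
  rw [← suppP_congr hs] at hr
  exact ⟨hmax r (Finset.mem_filter.2 ⟨hr, hr2⟩), hs.symm.trans (hsame r hr hr2)⟩

/-- Every class of an odd prime order meets all odd primes. -/
theorem mem_suppP_of_prime (hm : 1 < m) {q p : ℕ} (hq : q.Prime) (hq2 : q ≠ 2) (hqm : q ∣ m)
    (hp : p.Prime) (hp2 : p ≠ 2) (hpm : p ∣ m) : p ∈ suppP S q := by
  classical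
  by_contra hno
  obtain ⟨q, p, hq, hq2, hqm, hp, hp2, hpm, hno, hsame⟩ :=
    exists_minimal_counter hm hq hq2 hqm hp hp2 hpm hno
  set T := Blk.cls S q with hTdef
  have hXne : T.X.Nonempty := Blk.cls_nonempty hqm hq.one_lt.ne'
  have hat : T.IsAtom := Blk.cls_isAtom q
  obtain ⟨c, hc1, hc2⟩ := hat.exists_count hm hXne
  have hk : 2 * (c + 1) ≤ T.Y.card := T.two_cosets_card hXne
    (ker_ne_top fun h => Nat.not_dvd_ordCompl hp (NeZero.ne m) (hpm.trans h))
    (fun x hx => (mem_ker_compl hp).2 fun h => hno (mem_suppP.2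
      ⟨hp, hpm, _, order_dvd x, (Blk.mem_cls.1 hx).2, h⟩)) hc2
  have hWc : (Wf q : Finset (ZMod m)).card = q := card_ker_filter hqm
  have hqX : ∀ w, addOrderOf w = q → w ∈ T.X := fun w hw => Blk.mem_cls.2
    ⟨fun h => hq.ne_one (by rw [← hw, h, addOrderOf_zero]), by rw [hw]; exact Sys.Same.refl q⟩
  have hne0 : ∀ {w : ZMod m}, addOrderOf w = q → w ≠ 0 := fun {w} hw h =>
    hq.ne_one (by rw [← hw, h, addOrderOf_zero])
  -- going up
  have hup : ∀ d, ¬ q ∣ d → S.Same q d → S.Same q (q * d) := by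
    intro d hd h
    by_contra hh
    exact (S.frob_split hm hq hq2 hqm hd (fun h' => hh (h.trans h')) h.symm).1 dvd_rfl
  have hbad : ∀ {v w : ZMod m}, v ∈ T.X → addOrderOf w = q → v + w ∉ T.X → v + w ≠ 0 →
      ¬ q ∣ addOrderOf (v + w) ∧ ¬ S.Same q (addOrderOf (v + w)) ∧
        S.Same q (q * addOrderOf (v + w)) := by
    intro v w hv hw hn h0
    have hn' : ¬ S.Same q (addOrderOf (v + w)) := fun h => hn (Blk.mem_cls.2 ⟨h0, h⟩)
    have hv' := (Blk.mem_cls.1 hv).2
    by_cases hd : q ∣ addOrderOf v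
    · rcases order_add_eq hq hw hd with h | ⟨h, h'⟩
      · exact absurd (h ▸ hv') hn'
      · exact ⟨h, hn', h' ▸ hv'⟩
    · exact absurd (order_add_mul hq hw hd ▸ hup _ hd hv') hn'
  set D := univ.filter (fun x : ZMod m => x ≠ 0 ∧ ¬ q ∣ addOrderOf x ∧ ¬ S.Same q (addOrderOf x) ∧
    S.Same q (q * addOrderOf x)) with hD
  have hX2 : ∀ w, addOrderOf w = q → T.X.card ≤ cnt T.X T.X w + 1 + D.card := by
    intro w hw
    rw [cnt, ← Finset.card_filter_add_card_filter_not (s := T.X) (fun v => v + w ∈ T.X), add_assoc]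
    refine Nat.add_le_add_left ?_ _
    calc (T.X.filter fun v => ¬ v + w ∈ T.X).card
        ≤ (insert 0 D).card := Finset.card_le_card_of_injOn (fun v => v + w) (fun v hv => ?_)
          (fun a _ b _ h => add_right_cancel h)
      _ ≤ 1 + D.card := (Finset.card_insert_le _ _).trans (by omega)
    rw [Finset.mem_coe, Finset.mem_filter] at hv
    rw [Finset.mem_coe, Finset.mem_insert]
    by_cases h0 : v + w = 0
    · exact Or.inl h0
    · exact Or.inr (Finset.mem_filter.2 ⟨Finset.mem_univ _, h0, hbad hv.1 hw hv.2 h0⟩)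
  rcases D.eq_empty_or_nonempty with hDe | hDne
  · -- invariant under translations of order `q`
    have hA : ∀ v ∈ insert 0 T.X, ∀ w ∈ (Wf q : Finset (ZMod m)), v + w ∈ insert 0 T.X := by
      intro v hv w hw
      rcases (Wf_cases hq).1 hw with rfl | hw
      · rwa [add_zero]
      rcases Finset.mem_insert.1 hv with rfl | hv
      · rw [zero_add]; exact Finset.mem_insert_of_mem (hqX w hw)
      · by_contra hn
        rw [Finset.mem_insert, not_or] at hn
        have h : v + w ∈ D := by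
          rw [hD]; exact Finset.mem_filter.2 ⟨Finset.mem_univ (v + w), hn.1, hbad hv hw hn.2 hn.1⟩
        rw [hDe] at h
        exact absurd h (Finset.notMem_empty _)
    obtain ⟨w₀, hw₀⟩ := exists_order (m := m) hqm
    have hval : ∀ w, addOrderOf w = q → cnt T.Y T.Y w + (T.X.card + 1) = 2 * (c + 1) := by
      intro w hw
      have h1 := hc1 w (hqX w hw)
      have h2 := hX2 w hw
      have h3 : cnt T.X T.X w + 1 ≤ T.X.card := by
        have hnot : -w ∉ T.X.filter fun v => v + w ∈ T.X := fun h =>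
          T.zero (by simpa using (Finset.mem_filter.1 h).2)
        rw [cnt, ← Finset.card_insert_of_notMem hnot]
        exact Finset.card_le_card (Finset.insert_subset (T.neg_mem.2 (hqX w hw)) (Finset.filter_subset _ _))
      rw [hDe, Finset.card_empty] at h2
      simp only [Blk.sqC] at h1
      omega
    have ha : ∀ w, addOrderOf w = q → cnt T.Y T.Y w = cnt T.Y T.Y w₀ := fun w hw => by
      have := hval w hw
      have := hval w₀ hw₀
      omega
    have hb := coset_bound hWc hA (Y := T.Y) (c1 := c + 1) fun y hy => by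
      rw [Finset.insert_eq, cnt_union (by simpa using T.zero), hc2 y hy]
      rw [cnt, Finset.filter_singleton, if_pos (by rwa [zero_add]), Finset.card_singleton, add_comm]
    rw [sum_nu_const hq hqm T.Y ha, Finset.card_insert_of_notMem T.zero] at hb
    exact nat_invariant (by have := hq.two_le; omega) hk (Nat.succ_pos T.X.card) (hval w₀ hw₀)
      (Nat.le_of_mul_le_mul_left hb hq.pos)
  · -- a smaller class
    have hsub : (q - 1) * (D.card + 1) ≤ T.X.card := by
      have h := Finset.card_le_card_of_injOn (fun xw : ZMod m × ZMod m => xw.1 + xw.2)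
        (s := insert 0 D ×ˢ univ.filter fun w : ZMod m => addOrderOf w = q) (t := T.X) ?_ ?_
      · rw [Finset.card_product, card_order_eq hqm, Nat.totient_prime hq,
          Finset.card_insert_of_notMem (by simp [hD]), mul_comm] at h
        exact h
      · rintro ⟨x, w⟩ hxw
        simp only [Finset.mem_coe, Finset.mem_product, Finset.mem_insert, hD, Finset.mem_filter,
          Finset.mem_univ, true_and] at hxw ⊢
        rcases hxw.1 with h | ⟨-, h1, -, h3⟩
        · rw [h, zero_add]; exact hqX w hxw.2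
        · refine Blk.mem_cls.2 ⟨fun h0 => ?_, by rw [order_add_mul hq hxw.2 h1]; exact h3⟩
          have := order_add_mul hq hxw.2 h1
          rw [h0, addOrderOf_zero] at this
          exact hq.ne_one (Nat.eq_one_of_mul_eq_one_right this.symm)
      · rintro ⟨x, w⟩ hxw ⟨x', w'⟩ hxw' he
        simp only [Finset.mem_coe, Finset.mem_product, Finset.mem_insert, hD, Finset.mem_filter,
          Finset.mem_univ, true_and] at hxw hxw' he
        have hk1 : ∀ u : ZMod m, (u = 0 ∨ u ≠ 0 ∧ ¬ q ∣ addOrderOf u ∧ ¬ S.Same q (addOrderOf u) ∧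
            S.Same q (q * addOrderOf u)) → ¬ q ∣ addOrderOf u := by
          rintro u (rfl | hu)
          · rw [addOrderOf_zero]; exact hq.not_dvd_one
          · exact hu.2.1
        have h1 : x - x' ∈ (ker (ordCompl[q] m) : AddSubgroup (ZMod m)) :=
          sub_mem ((mem_ker_compl hq).2 (hk1 x hxw.1)) ((mem_ker_compl hq).2 (hk1 x' hxw'.1))
        have h2 : q • (x - x') = 0 := by
          have a1 : q • w = 0 := by rw [← hxw.2, addOrderOf_nsmul_eq_zero]
          have a2 : q • w' = 0 := by rw [← hxw'.2, addOrderOf_nsmul_eq_zero]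
          rw [show x - x' = w' - w by linear_combination he, nsmul_sub, a1, a2, sub_zero]
        have h3 : x = x' := by
          rcases (Nat.dvd_prime hq).1 (addOrderOf_dvd_iff_nsmul_eq_zero.2 h2) with h | h
          · exact sub_eq_zero.1 (AddMonoid.addOrderOf_eq_one_iff.1 h)
          · exact absurd (h ▸ dvd_rfl) ((mem_ker_compl hq).1 h1)
        subst h3
        rw [add_left_cancel he]
    -- candidates
    have hP := (S.good_same q).frob hm hq hq2 hqm
    obtain ⟨xD, hxD⟩ := hDne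
    rw [hD, Finset.mem_filter] at hxD
    have hDP : ¬ q ∣ addOrderOf xD ∧
        ¬ (S.Same q (addOrderOf xD) ↔ S.Same q (q * addOrderOf xD)) :=
      ⟨hxD.2.2.1, fun h => hxD.2.2.2.1 (h.2 hxD.2.2.2.2)⟩
    let Cand : ℕ → Prop := fun d => d ≠ 1 ∧ ∀ f, f ∣ m → S.Same d f →
      ∀ l, l.Prime → l ∣ f → l ∈ suppP S q ∧ l ≠ q
    have hcl : ∀ f, f ∣ m → S.Same (addOrderOf xD) f →
        ¬ q ∣ f ∧ ¬ S.Same q f ∧ S.Same q (q * f) := by
      intro f hfm hf
      obtain ⟨h1, h2⟩ := (hf _ hP).1 hDP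
      have h3 : ¬ S.Same q f := fun h => hxD.2.2.2.1 (h.trans hf.symm)
      exact ⟨h1, h3, not_not.1 fun h4 => h2 ⟨fun h5 => absurd h5 h3, fun h5 => absurd h5 h4⟩⟩
    have hcand : Cand (addOrderOf xD) := by
      refine ⟨fun h => hxD.2.1 (AddMonoid.addOrderOf_eq_one_iff.1 h), fun f hfm hf l hl hlf => ?_⟩
      obtain ⟨h1, -, h3⟩ := hcl f hfm hf
      exact ⟨mem_suppP.2 ⟨hl, hlf.trans hfm, q * f,
        (hq.coprime_iff_not_dvd.2 h1).mul_dvd_of_dvd_of_dvd hqm hfm, h3, hlf.mul_left q⟩,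
        fun h => h1 (h ▸ hlf)⟩
    obtain ⟨d₀, hd₀, hmin⟩ := (m.divisors.filter Cand).exists_min_image
      (fun d => (Blk.cls S d).X.card)
      ⟨addOrderOf xD, Finset.mem_filter.2 ⟨Nat.mem_divisors.2 ⟨order_dvd xD, NeZero.ne m⟩, hcand⟩⟩
    rw [Finset.mem_filter, Nat.mem_divisors] at hd₀
    obtain ⟨⟨hd₀m, -⟩, hd₀1, hd₀P⟩ := hd₀
    set T0 := Blk.cls S d₀ with hT0
    have hh0 : T0.X.card ≤ D.card := by
      refine (hmin _ (Finset.mem_filter.2 ⟨Nat.mem_divisors.2 ⟨order_dvd xD, NeZero.ne m⟩, hcand⟩)).trans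
        (Finset.card_le_card fun x hx => ?_)
      rw [Blk.mem_cls] at hx
      exact Finset.mem_filter.2 ⟨Finset.mem_univ x, hx.1, hcl _ (order_dvd x) hx.2⟩
    have hne0' : T0.X.Nonempty := Blk.cls_nonempty hd₀m hd₀1
    have hmemP : ∀ {x}, x ∈ T0.X → ∀ l, l.Prime → l ∣ addOrderOf x → l ∈ suppP S q ∧ l ≠ q :=
      fun {x} hx => hd₀P _ (order_dvd x) (Blk.mem_cls.1 hx).2
    obtain ⟨xr, hxr, r, hr, hr2, hrx⟩ : ∃ x ∈ T0.X, ∃ r : ℕ, r.Prime ∧ r ≠ 2 ∧ r ∣ addOrderOf x := by
      by_contra hh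
      push Not at hh
      refine T0.not_two_power hm (Blk.cls_isAtom d₀) hne0' (fun x hx => ?_) hq hq2 hqm
      exact ⟨_, Nat.eq_prime_pow_of_unique_prime_dvd (addOrderOf_pos x).ne' fun {l} hl hlx =>
        not_not.1 fun h2 => hh x hx l hl h2 hlx⟩
    obtain ⟨hrS, hrq⟩ := hmemP hxr r hr hrx
    obtain ⟨hrle, hrsame⟩ := hsame r hrS hr2
    have hrm : r ∣ m := hrx.trans (order_dvd xr)
    have hnr : ¬ S.Same d₀ r := fun h => (hd₀P q hqm (h.trans hrsame.symm) q hq dvd_rfl).2 rfl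
    have hno2 : ∀ e, e ∣ m → e ≠ 1 → ¬ r ∣ e → (S.Same d₀ e ↔ S.Same d₀ (r * e)) := by
      intro e hem he1 hre
      by_contra hxor
      have hG := (S.good_same d₀).frob hm hr hr2 hrm
      by_cases h1 : S.Same d₀ e
      · have := ((h1.symm.trans (Blk.mem_cls.1 hxr).2) _ hG).1 ⟨hre, hxor⟩
        exact this.1 hrx
      · have hall : ∀ f, f ∣ m → S.Same e f → ¬ r ∣ f ∧ S.Same d₀ (r * f) := by
          intro f hfm hf
          obtain ⟨a1, a2⟩ := (hf _ hG).1 ⟨hre, hxor⟩
          exact ⟨a1, not_not.1 fun h4 => a2 ⟨fun h5 => absurd (h5.trans hf.symm) h1,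
            fun h5 => absurd h5 h4⟩⟩
        have hcand2 : Cand e := ⟨he1, fun f hfm hf l hl hlf => by
          obtain ⟨a1, a2⟩ := hall f hfm hf
          exact hd₀P (r * f) ((hr.coprime_iff_not_dvd.2 a1).mul_dvd_of_dvd_of_dvd hrm hfm) a2 l hl
            (hlf.mul_left r)⟩
        have hle := hmin e (Finset.mem_filter.2 ⟨Nat.mem_divisors.2 ⟨hem, NeZero.ne m⟩, hcand2⟩)
        have h := Finset.card_le_card_of_injOn (fun xw : ZMod m × ZMod m => xw.1 + xw.2)
          (s := (Blk.cls S e).X ×ˢ univ.filter fun w : ZMod m => addOrderOf w = r) (t := T0.X) ?_ ?_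
        · rw [Finset.card_product, card_order_eq hrm, Nat.totient_prime hr] at h
          have hpos := (Blk.cls_nonempty (S := S) hem he1).card_pos
          have : 2 ≤ r - 1 := by have := hr.two_le; omega
          have h2 := Nat.mul_le_mul_left (Blk.cls S e).X.card this
          omega
        · rintro ⟨x, w⟩ hxw
          simp only [Finset.mem_coe, Finset.mem_product, Finset.mem_filter, Finset.mem_univ,
            true_and] at hxw ⊢
          obtain ⟨a1, a2⟩ := hall _ (order_dvd x) (Blk.mem_cls.1 hxw.1).2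
          refine Blk.mem_cls.2 ⟨fun h0 => ?_, by rw [order_add_mul hr hxw.2 a1]; exact a2⟩
          have := order_add_mul hr hxw.2 a1
          rw [h0, addOrderOf_zero] at this
          exact hr.ne_one (Nat.eq_one_of_mul_eq_one_right this.symm)
        · rintro ⟨x, w⟩ hxw ⟨x', w'⟩ hxw' he
          simp only [Finset.mem_coe, Finset.mem_product, Finset.mem_filter, Finset.mem_univ,
            true_and] at hxw hxw' he
          have h1 : x - x' ∈ (ker (ordCompl[r] m) : AddSubgroup (ZMod m)) :=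
            sub_mem ((mem_ker_compl hr).2 (hall _ (order_dvd x) (Blk.mem_cls.1 hxw.1).2).1)
              ((mem_ker_compl hr).2 (hall _ (order_dvd x') (Blk.mem_cls.1 hxw'.1).2).1)
          have h2 : r • (x - x') = 0 := by
            have a1 : r • w = 0 := by rw [← hxw.2, addOrderOf_nsmul_eq_zero]
            have a2 : r • w' = 0 := by rw [← hxw'.2, addOrderOf_nsmul_eq_zero]
            rw [show x - x' = w' - w by linear_combination he, nsmul_sub, a1, a2, sub_zero]
          have h3 : x = x' := by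
            rcases (Nat.dvd_prime hr).1 (addOrderOf_dvd_iff_nsmul_eq_zero.2 h2) with h | h
            · exact sub_eq_zero.1 (AddMonoid.addOrderOf_eq_one_iff.1 h)
            · exact absurd (h ▸ dvd_rfl) ((mem_ker_compl hr).1 h1)
          subst h3
          rw [add_left_cancel he]
    have hinv : ∀ v ∈ T0.X, ∀ w ∈ (Wf r : Finset (ZMod m)), v + w ∈ T0.X := by
      intro v hv w hw
      rcases (Wf_cases hr).1 hw with rfl | hw
      · rwa [add_zero]
      obtain ⟨hv0, hv1⟩ := Blk.mem_cls.1 hv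
      have h0 : v + w ≠ 0 := fun h => hnr (by
        rw [← hw, ← addOrderOf_neg w, ← eq_neg_of_add_eq_zero_left h]; exact hv1)
      refine Blk.mem_cls.2 ⟨h0, ?_⟩
      by_cases hd : r ∣ addOrderOf v
      · rcases order_add_eq hr hw hd with h | ⟨h, h'⟩
        · rwa [h]
        · exact (hno2 _ (order_dvd _) (fun h1 => h0 (AddMonoid.addOrderOf_eq_one_iff.1 h1)) h).2
            (h' ▸ hv1)
      · rw [order_add_mul hr hw hd]
        exact (hno2 _ (order_dvd v) (fun h1 => hv0 (AddMonoid.addOrderOf_eq_one_iff.1 h1)) hd).1 hv1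
    obtain ⟨z, hz⟩ := exists_order (m := m) hrm
    obtain ⟨yT, hyT⟩ := T.Y_nonempty hXne
    have hrX : ∀ w, addOrderOf w = r → w ∈ T.X := fun w hw => Blk.mem_cls.2
      ⟨fun h => hr.ne_one (by rw [← hw, h, addOrderOf_zero]), by rw [hw]; exact hrsame⟩
    have hX0 : ∀ w, addOrderOf w = r → cnt T0.X T0.X w = T0.X.card := fun w hw => by
      rw [cnt, Finset.filter_eq_self.2]
      exact fun v hv => hinv v hv w ((Wf_cases hr).2 (Or.inr hw))
    have hconst : ∀ w, addOrderOf w = r → ∀ y ∈ T.Y,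
        T0.X.card + cnt T0.Y T0.Y w = 2 * cnt T0.X T0.Y y := by
      intro w hw y hy
      have h := hat.const hm (T0.sq_adm ℤ) (T0.sq_isRat hm) (hrX w hw) hy
      simp only [el_coeff, Blk.sqC, Blk.sqR, hX0 w hw, Nat.cast_inj] at h
      exact h.symm
    have ha : ∀ w, addOrderOf w = r → cnt T0.Y T0.Y w = cnt T0.Y T0.Y z := fun w hw => by
      have := hconst w hw yT hyT
      have := hconst z hz yT hyT
      omega
    set a0 := cnt T0.Y T0.Y z
    set M := cnt T0.X T0.Y yT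
    have hMall : ∀ y ∈ T.Y, cnt T0.X T0.Y y = M := fun y hy => by
      have := hconst z hz y hy
      have := hconst z hz yT hyT
      omega
    have hWr : (Wf r : Finset (ZMod m)).card = r := card_ker_filter hrm
    set ν := fun u => cnt (Wf r) T0.Y u with hν
    have hsumν : ∀ v : ZMod m, ∑ u, ν (u + v) * ν (u + v) = r * (T0.Y.card + (r - 1) * a0) := by
      intro v
      have h0 := Equiv.sum_comp (Equiv.addRight v) fun u => ν u * ν u
      simp only [Equiv.coe_addRight] at h0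
      rw [h0, sum_nu_mul T0.Y hWr ν (fun u w hw => nu_shift T0.Y hw u), sum_nu_const hr hrm T0.Y ha]
    have hlin : ∀ v : ZMod m, ∑ u, ν (u + v) = r * T0.Y.card := by
      intro v
      have h0 := Equiv.sum_comp (Equiv.addRight v) ν
      simp only [Equiv.coe_addRight] at h0
      rw [h0, hν, sum_cnt_univ, hWr]
    have hex : ∀ n : ℕ, n * (n - 1) + n = n * n := fun n => by
      cases n with
      | zero => rfl
      | succ k => rw [Nat.add_sub_cancel]; ring
    have hpt : ∀ y ∈ T.Y, r * M * (r * M) ≤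
        T0.X.card * (∑ v ∈ T0.X, ν (y + v) * (ν (y + v) - 1)) + T0.X.card * (r * M) := by
      intro y hy
      have h1 := sq_sum_le_card_mul_sum_sq (s := T0.X) (f := fun v => ν (y + v))
      rw [sq, hν, sum_shift_nu T0.Y hWr hinv, hMall y hy] at h1
      refine h1.trans (le_of_eq ?_)
      rw [← mul_add, ← hMall y hy, ← sum_shift_nu T0.Y hWr hinv, ← Finset.sum_add_distrib]
      congr 1
      exact Finset.sum_congr rfl fun v _ => by rw [hex, sq]
    have htot : ∑ y ∈ T.Y, ∑ v ∈ T0.X, ν (y + v) * (ν (y + v) - 1) ≤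
        T0.X.card * (r * ((r - 1) * a0)) := by
      refine (Finset.sum_le_sum_of_subset (Finset.subset_univ T.Y)).trans (le_of_eq ?_)
      rw [Finset.sum_comm, Finset.sum_congr rfl (g := fun _ => r * ((r - 1) * a0)), Finset.sum_const,
        smul_eq_mul]
      intro v _
      have h1 := hsumν v
      have h2 : ∑ u, ν (u + v) * ν (u + v) =
          (∑ u, ν (u + v) * (ν (u + v) - 1)) + ∑ u, ν (u + v) := by
        rw [← Finset.sum_add_distrib]
        exact Finset.sum_congr rfl fun u _ => (hex _).symm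
      rw [h2, hlin, mul_add] at h1
      omega
    have h5 := Finset.sum_le_sum hpt
    rw [Finset.sum_add_distrib, Finset.sum_const, Finset.sum_const, ← Finset.mul_sum, smul_eq_mul,
      smul_eq_mul] at h5
    have h6 := h5.trans (Nat.add_le_add_right (Nat.mul_le_mul_left _ htot) _)
    have hkT : 2 * T0.X.card ≤ T.Y.card := by
      obtain ⟨w₀, hw₀⟩ := exists_order (m := m) hqm
      have h1 := hc1 w₀ (hqX w₀ hw₀)
      have h2 := hX2 w₀ hw₀
      simp only [Blk.sqC] at h1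
      have hq5 : 4 ≤ q - 1 := by
        have := hr.two_le
        rcases (show q = 4 ∨ 5 ≤ q by omega) with hq5 | hq5
        · exact absurd (hq5 ▸ hq) (by norm_num)
        · omega
      have h3 := Nat.mul_le_mul_right (D.card + 1) hq5
      omega
    refine nat_compare (r := r) (by have := hr.two_le; omega) hkT hne0'.card_pos (hconst z hz yT hyT).symm
      (a := a0) (Nat.le_of_mul_le_mul_left ?_ hr.pos)
    calc r * (T.Y.card * (r * (M * M))) = T.Y.card * (r * M * (r * M)) := by ring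
      _ ≤ _ := h6
      _ = r * (T0.X.card * T0.X.card * ((r - 1) * a0) + T.Y.card * (T0.X.card * M)) := by ring

end H88.Dih
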