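import Cfsg.Agent.H88.Dihedral.Blk

/-!
An atom whose orders are all powers of two excludes odd prime divisors of the order.
-/

set_option autoImplicit false
set_option linter.style.haveILetI false
set_option linter.unusedSectionVars false

namespace H88.Dih

open DihedralGroup Finset

variable {m : ℕ} [NeZero m]

/-- Elements killed by a natural number, as a subgroup. -/
def ker (L : ℕ) : AddSubgroup (ZMod m) := (nsmulAddMonoidHom L : ZMod m →+ ZMod m).ker

theorem mem_ker {L : ℕ} {x : ZMod m} : x ∈ (ker L : AddSubgroup (ZMod m)) ↔ addOrderOf x ∣ L := by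
  rw [ker, AddMonoidHom.mem_ker, addOrderOf_dvd_iff_nsmul_eq_zero]
  rfl

theorem ker_ne_top {L : ℕ} (h : ¬ m ∣ L) : (ker L : AddSubgroup (ZMod m)) ≠ ⊤ := fun he => by
  obtain ⟨x, hx⟩ := exists_order (m := m) (dvd_refl m)
  exact h (hx ▸ mem_ker.1 (he ▸ AddSubgroup.mem_top x))

/-- The prime-to-`p` part. -/
theorem mem_ker_compl {p : ℕ} (hp : p.Prime) {x : ZMod m} :
    x ∈ (ker (ordCompl[p] m) : AddSubgroup (ZMod m)) ↔ ¬ p ∣ addOrderOf x := by
  rw [mem_ker]
  refine ⟨fun h hpd => Nat.not_dvd_ordCompl hp (NeZero.ne m) (hpd.trans h), fun h => ?_⟩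
  have hco : (addOrderOf x).Coprime (p ^ m.factorization p) :=
    ((hp.coprime_iff_not_dvd.2 h).symm).pow_right _
  refine hco.dvd_of_dvd_mul_left ?_
  rw [Nat.ordProj_mul_ordCompl_eq_self]
  exact order_dvd x

/-- The value of the square off the identity is attained on the reflections. -/
theorem Blk.exists_sqR_eq {S : Sys m} (hm : 1 < m) (T : Blk S) {g : ZMod m} (hg : g ≠ 0) :
    ∃ z, T.sqC g = T.sqR z := by
  have hne : (Blk.cls S (addOrderOf g)).X.Nonempty := ⟨g, Blk.mem_cls.2 ⟨hg, Sys.Same.refl _⟩⟩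
  obtain ⟨z, hz⟩ := (Blk.cls S (addOrderOf g)).Y_nonempty hne
  refine ⟨z, ?_⟩
  have h := (Blk.cls_isAtom (S := S) (addOrderOf g)).const hm (T.sq_adm ℤ) (T.sq_isRat hm)
    (Blk.mem_cls.2 ⟨hg, Sys.Same.refl _⟩) hz
  simp only [el_coeff, Nat.cast_inj] at h
  exact h.symm

/-- Frobenius congruence at orders divisible by a prime avoided by the rotation part. -/
theorem Blk.dvd_cnt {S : Sys m} (hm : 1 < m) (T : Blk S) {p : ℕ} (hp : p.Prime) (hp2 : p ≠ 2)
    (hX : ∀ x ∈ T.X, ¬ p ∣ addOrderOf x) {x : ZMod m} (hx : p ∣ addOrderOf x) :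
    p ∣ cnt T.Y T.Y x := by
  classical
  haveI := Fact.mk hp
  obtain ⟨k, hk⟩ := hp.odd_of_ne_two hp2
  set a := ind (ZMod p) T.X with ha
  set b := ind (ZMod p) T.Y with hb
  have hmove : ∀ y ∈ T.X, (p : ZMod m) * y ∈ T.X ∧ addOrderOf ((p : ZMod m) * y) = addOrderOf y := by
    intro y hy
    have h1 : addOrderOf ((p : ZMod m) * y) = addOrderOf y := by
      rw [← nsmul_eq_mul]
      exact (hp.coprime_iff_not_dvd.2 (hX y hy)).symm.addOrderOf_nsmul
    exact ⟨(T.rat _ _ h1).2 hy, h1⟩
  have hinj : Set.InjOn (fun y : ZMod m => (p : ZMod m) * y) T.X := by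
    intro y hy z hz he
    have h1 : p • (y - z) = 0 := by
      rw [nsmul_eq_mul, mul_sub, show (p : ZMod m) * y = p * z from he, sub_self]
    have h2 : y - z ∈ (ker (ordCompl[p] m) : AddSubgroup (ZMod m)) :=
      sub_mem ((mem_ker_compl hp).2 (hX y hy)) ((mem_ker_compl hp).2 (hX z hz))
    rcases (Nat.dvd_prime hp).1 (addOrderOf_dvd_iff_nsmul_eq_zero.2 h1) with h3 | h3
    · exact sub_eq_zero.1 (AddMonoid.addOrderOf_eq_one_iff.1 h3)
    · exact absurd (h3 ▸ dvd_rfl) ((mem_ker_compl hp).1 h2)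
  have himage : T.X.image (fun y : ZMod m => (p : ZMod m) * y) = T.X := by
    refine Finset.eq_of_subset_of_card_le (fun z hz => ?_) (by rw [Finset.card_image_of_injOn hinj])
    obtain ⟨y, hy, rfl⟩ := Finset.mem_image.1 hz
    exact (hmove y hy).1
  have hap : a ^ p = a := by
    refine K.ext fun z => ?_
    rw [coeff_pow_prime, ha]
    simp only [ind_coeff]
    rw [Finset.sum_boole]
    by_cases hz : z ∈ T.X
    · rw [if_pos hz]
      obtain ⟨y, hy, rfl⟩ := Finset.mem_image.1 (himage.symm ▸ hz)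
      rw [Finset.card_eq_one.2 ⟨y, ?_⟩, Nat.cast_one]
      refine Finset.eq_singleton_iff_unique_mem.2 ⟨by simp [hy], fun w hw => ?_⟩
      simp only [Finset.mem_filter, Finset.mem_univ, true_and] at hw
      exact hinj hw.2 hy hw.1
    · rw [if_neg hz]
      convert Nat.cast_zero
      rw [Finset.card_eq_zero, Finset.filter_eq_empty_iff]
      intro w hw hwX
      exact hz ((Finset.mem_filter.1 hw).2 ▸ (hmove w hwX).1)
  have h2 := (T.adm' (ZMod p)).frobenius hk
  rw [← ha, ← hb, hap] at h2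
  have hbk : b * (star' b * b) ^ k = b :=
    K.ext fun i => Sys.eq_of_eq_r hm h2 (T.adm' (ZMod p)) (fun j _ => rfl) i
  have hS : (star' b * b) ^ p = star' b * b := by
    calc (star' b * b) ^ p = (star' b * b) ^ (2 * k + 1) := congrArg _ hk
      _ = star' b * (b * (star' b * b) ^ k * (star' b * b) ^ k) := by ring
      _ = star' b * b := by rw [hbk, hbk]
  suffices ∀ n (z : ZMod m), m - addOrderOf z ≤ n → p ∣ addOrderOf z →
      ((cnt T.Y T.Y z : ℕ) : ZMod p) = 0 from
    (ZMod.natCast_eq_zero_iff _ _).1 (this _ x le_rfl hx)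
  intro n
  induction n using Nat.strong_induction_on with
  | _ n ih =>
    intro z hn hz
    rw [← star'_ind_mul, ← hb, ← hS, coeff_pow_prime]
    refine Finset.sum_eq_zero fun y hy => ?_
    have ho := order_of_mul_eq hp (Finset.mem_filter.1 hy).2 hz
    rw [hb, star'_ind_mul]
    have h3 : addOrderOf y ≤ m := Nat.le_of_dvd (NeZero.pos m) (order_dvd y)
    have h4 : addOrderOf z < addOrderOf y := by
      rw [ho]
      exact lt_mul_of_one_lt_left (addOrderOf_pos z) hp.one_lt
    exact ih (m - addOrderOf y) (by omega) y le_rfl (ho ▸ dvd_mul_right p _)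

open Classical in
/-- Changing an invariant function at the identity. -/
theorem Sys.Inv.punct {S : Sys m} {α : Type*} {F : DihedralGroup m → α} (hF : S.Inv F) (c : α) :
    S.Inv fun z => if z = 1 then c else F z := by
  intro σ hσ z
  by_cases hz : z = 1
  · subst hz; simp only [S.fix σ hσ]
  · have h4 : σ z ≠ 1 := fun h5 => hz (σ.injective (h5.trans (S.fix σ hσ).symm))
    simp only [if_neg hz, if_neg h4, hF σ hσ z]

theorem card_ker_filter {n : ℕ} (hn : n ∣ m) :
    (univ.filter fun x : ZMod m => n • x = 0).card = n := by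
  classical
  have hn0 : n ≠ 0 := fun h => NeZero.ne m (Nat.eq_zero_of_zero_dvd (h ▸ hn))
  rw [Finset.card_eq_sum_card_fiberwise (f := addOrderOf) (t := n.divisors) fun x hx =>
    Nat.mem_divisors.2 ⟨addOrderOf_dvd_iff_nsmul_eq_zero.2 (Finset.mem_filter.1 hx).2, hn0⟩]
  conv_rhs => rw [← Nat.sum_totient n]
  refine Finset.sum_congr rfl fun d hd => ?_
  rw [← card_order_eq ((Nat.mem_divisors.1 hd).1.trans hn), Finset.filter_filter]
  refine congrArg Finset.card (Finset.filter_congr fun x _ => ?_)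
  exact ⟨fun h => h.2, fun h => ⟨addOrderOf_dvd_iff_nsmul_eq_zero.1 (h ▸ (Nat.mem_divisors.1 hd).1), h⟩⟩

theorem cnt_shift {A A' : Finset (ZMod m)} (B : Finset (ZMod m)) {d : ZMod m}
    (h : ∀ v, v ∈ A ↔ v + d ∈ A') (z : ZMod m) : cnt A B (z + d) = cnt A' B z := by
  refine Finset.card_equiv (Equiv.addRight d) fun v => ?_
  rw [Finset.mem_filter, Finset.mem_filter, Equiv.coe_addRight, ← h, show v + d + z = v + (z + d) by abel]

/-- Two points in different cosets of a subgroup have disjoint neighbourhoods inside it. -/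
theorem cnt_add_le {A B : Finset (ZMod m)} {L : AddSubgroup (ZMod m)} (hA : ∀ v ∈ A, v ∈ L)
    {y y' : ZMod m} (h : y' - y ∉ L) : cnt A B y + cnt A B y' ≤ B.card := by
  classical
  rw [cnt, cnt, ← Finset.card_map (addRightEmbedding y) (s := A.filter fun v => v + y ∈ B),
    ← Finset.card_map (addRightEmbedding y') (s := A.filter fun v => v + y' ∈ B),
    ← Finset.card_union_of_disjoint]
  · refine Finset.card_le_card fun w hw => ?_
    simp only [Finset.mem_union, Finset.mem_map, addRightEmbedding_apply, Finset.mem_filter] at hw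
    rcases hw with ⟨v, hv, rfl⟩ | ⟨v, hv, rfl⟩ <;> exact hv.2
  · rw [Finset.disjoint_left]
    simp only [Finset.mem_map, addRightEmbedding_apply, Finset.mem_filter]
    rintro w ⟨v, hv, rfl⟩ ⟨v', hv', he⟩
    refine h ?_
    have : y' - y = v - v' := by linear_combination he
    exact this ▸ L.sub_mem (hA v hv.1) (hA v' hv'.1)

theorem cnt_pos {A B : Finset (ZMod m)} {g v : ZMod m} (hv : v ∈ A) (hg : v + g ∈ B) : 0 < cnt A B g :=
  Finset.card_pos.2 ⟨v, Finset.mem_filter.2 ⟨hv, hg⟩⟩

theorem cnt_union {A A' : Finset (ZMod m)} (h : Disjoint A A') (B : Finset (ZMod m)) (g : ZMod m) :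
    cnt (A ∪ A') B g = cnt A B g + cnt A' B g := by
  rw [cnt, cnt, cnt, Finset.filter_union, Finset.card_union_of_disjoint]
  exact Finset.disjoint_filter_filter h

/-- The inequality behind the case of a large rotation part. -/
theorem nat_large_case {h hh c k s : ℕ} (h1 : 2 * (c + 1) ≤ k) (h2 : k * c + s = 2 * c * h)
    (h3 : h * (2 * h) ≤ s + h * (2 * hh)) (h4 : 4 * hh ≤ 3 * h) (h5 : 0 < h) : False := by
  nlinarith [sq_nonneg ((h : ℤ) - 1 - 2 * c), Nat.mul_le_mul_right h h4]

/-- The inequality behind the case of one layer. -/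
theorem nat_layer {N hh R : ℕ} (hN : 0 < N) (hhh : 0 < hh)
    (h : (hh - 1) * hh + (N * (N - 1) + R) ≤ (hh - 1) * (2 * N)) :
    N ≤ hh ∧ hh ≤ N + 1 ∧ R = 0 ∧ (hh - 1) * hh + (N * (N - 1) + R) = (hh - 1) * (2 * N) := by
  obtain ⟨M, rfl⟩ : ∃ M, N = M + 1 := ⟨N - 1, by omega⟩
  obtain ⟨H1, rfl⟩ : ∃ H1, hh = H1 + 1 := ⟨hh - 1, by omega⟩
  simp only [Nat.add_sub_cancel] at h ⊢
  rcases (show H1 < M ∨ H1 = M ∨ H1 = M + 1 ∨ M + 1 < H1 by omega) with h' | h' | h' | h'
  · obtain ⟨d, rfl⟩ := Nat.exists_eq_add_of_lt h'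
    nlinarith
  · subst h'
    exact ⟨le_rfl, by omega, by nlinarith, by nlinarith⟩
  · subst h'
    exact ⟨by omega, le_rfl, by nlinarith, by nlinarith⟩
  · obtain ⟨d, rfl⟩ := Nat.exists_eq_add_of_lt h'
    nlinarith

/-- The inequality pinning the count when several layers occur. -/
theorem nat_two_c {e u c k s hh : ℕ} (hu : c = e + u) (hk : 4 * u ≤ k)
    (h : k * c + s = 2 * c * (hh + e)) (hs : hh * (2 * e) + e * hh ≤ s) (he : 3 * e < hh)
    (hc : hh ≤ 2 * c) : 2 * c = hh := by
  by_contra hne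
  obtain ⟨d, hd⟩ : ∃ d, 2 * c = hh + d := ⟨2 * c - hh, by omega⟩
  obtain ⟨g, hg⟩ : ∃ g, 2 * c = 3 * e + g := ⟨2 * c - 3 * e, by omega⟩
  have h1 : 0 < d * g := Nat.mul_pos (by omega) (by omega)
  have h2 := Nat.mul_le_mul_right c hk
  nlinarith

/-- The final inequality when several layers occur. -/
theorem nat_four_c {e c k s hh : ℕ} (hk : 4 * c ≤ k) (h : k * c + s = 2 * c * (hh + e))
    (hs : hh * (2 * e) + e * hh ≤ s) (h2c : 2 * c = hh) (he : 0 < e) (hc : 0 < c) : False := by
  subst h2c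
  have h1 := Nat.mul_le_mul_right c hk
  have h2 : 0 < e * c := Nat.mul_pos he hc
  nlinarith

/-- An atom with all orders powers of two excludes odd prime divisors. -/
theorem Blk.not_two_power {S : Sys m} (hm : 1 < m) (T : Blk S) (hat : T.IsAtom)
    (hne : T.X.Nonempty) (hpow : ∀ x ∈ T.X, ∃ j, addOrderOf x = 2 ^ j) {p : ℕ} (hp : p.Prime)
    (hp2 : p ≠ 2) (hpm : p ∣ m) : False := by
  classical
  obtain ⟨x₀, hx₀, hmax⟩ := T.X.exists_max_image addOrderOf hne
  obtain ⟨E, hE⟩ := hpow x₀ hx₀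
  obtain ⟨e', rfl⟩ : ∃ e', E = e' + 1 := by
    cases E with
    | zero =>
      rw [pow_zero, AddMonoid.addOrderOf_eq_one_iff] at hE
      exact absurd (hE ▸ hx₀) T.zero
    | succ n => exact ⟨n, rfl⟩
  set hh := 2 ^ e' with hhh
  have hhpos : 0 < hh := by positivity
  set z₀ := hh • x₀ with hz₀
  have hz₀2 : addOrderOf z₀ = 2 := by
    rw [hz₀, addOrderOf_nsmul, hE, Nat.gcd_eq_right (pow_dvd_pow 2 (Nat.le_succ e')), pow_succ,
      Nat.mul_div_cancel_left _ hhpos]
  have hz₀ne : z₀ ≠ 0 := fun h => by rw [h, addOrderOf_zero] at hz₀2; omega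
  have hz₀add : z₀ + z₀ = 0 := by
    have := addOrderOf_nsmul_eq_zero z₀
    rwa [hz₀2, two_nsmul] at this
  have h2m : 2 ∣ m := hz₀2 ▸ order_dvd z₀
  have huniq : ∀ z : ZMod m, z + z = 0 → z ≠ 0 → z = z₀ := by
    intro z hz hz'
    haveI := Fact.mk Nat.prime_two
    have h1 : addOrderOf z = 2 := addOrderOf_eq_prime_iff.2 ⟨by rw [two_nsmul, hz], hz'⟩
    exact Finset.card_le_one.1 (by rw [card_order_eq h2m, Nat.totient_two]) z (by simp [h1]) z₀
      (by simp [hz₀2])
  -- the three sets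
  set H2 := univ.filter (fun x : ZMod m => hh • x = 0) with hH2
  set top := univ.filter (fun x : ZMod m => hh • x = z₀) with htop
  set H := univ.filter (fun x : ZMod m => (2 * hh) • x = 0) with hH
  have hx₀top : x₀ ∈ top := by simp [htop, hz₀]
  have hdvd : 2 * hh ∣ m := by
    have h := hE ▸ order_dvd x₀
    rwa [pow_succ, mul_comm] at h
  have cH : H.card = 2 * hh := card_ker_filter hdvd
  have cH2 : H2.card = hh := card_ker_filter ((Dvd.intro_left 2 rfl).trans hdvd)
  have ctop : top.card = hh := by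
    rw [← cH2]
    refine (Finset.card_equiv (Equiv.addRight x₀) fun v => ?_).symm
    rw [hH2, htop, Finset.mem_filter, Finset.mem_filter, Equiv.coe_addRight, nsmul_add, ← hz₀]
    simp
  have hXH : ∀ x ∈ T.X, x ∈ H := by
    intro x hx
    obtain ⟨j, hj⟩ := hpow x hx
    have h1 : 2 ^ j ≤ 2 ^ (e' + 1) := hj ▸ hE ▸ hmax x hx
    rw [hH, Finset.mem_filter]
    refine ⟨Finset.mem_univ _, addOrderOf_dvd_iff_nsmul_eq_zero.1 ?_⟩
    rw [hj, hhh, ← pow_succ']
    exact pow_dvd_pow 2 ((Nat.pow_le_pow_iff_right (by norm_num)).1 h1)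
  have htopX : ∀ x ∈ top, x ∈ T.X := by
    intro x hx
    rw [htop, Finset.mem_filter] at hx
    haveI := Fact.mk Nat.prime_two
    refine (T.rat x x₀ ?_).2 hx₀
    rw [hE]
    refine addOrderOf_eq_prime_pow (by rw [← hhh, hx.2]; exact hz₀ne) ?_
    rw [pow_succ', mul_nsmul', ← hhh, hx.2, two_nsmul, hz₀add]
  have hsplit : ∀ x ∈ H, x ∈ H2 ∨ x ∈ top := by
    intro x hx
    simp only [hH, hH2, htop, Finset.mem_filter, Finset.mem_univ, true_and, mul_nsmul', two_nsmul] at hx ⊢
    by_cases h0 : hh • x = 0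
    · exact Or.inl h0
    · exact Or.inr (huniq _ hx h0)
  have hdisj : Disjoint top H2 := Finset.disjoint_left.2 fun x hx hx' => hz₀ne (by
    simp only [hH2, htop, Finset.mem_filter] at hx hx'
    rw [← hx.2, hx'.2])
  have m2 : ∀ {x}, x ∈ H2 ↔ hh • x = 0 := by simp [hH2]
  have mt : ∀ {x}, x ∈ top ↔ hh • x = z₀ := by simp [htop]
  have mH : ∀ {x}, x ∈ H2 ∨ x ∈ top → x ∈ H := by
    intro x hx
    simp only [hH, Finset.mem_filter, Finset.mem_univ, true_and, mul_nsmul']
    rcases hx with hx | hx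
    · rw [m2.1 hx, nsmul_zero]
    · rw [mt.1 hx, two_nsmul, hz₀add]
  -- shifting
  set Y := T.Y with hY
  have oT : ∀ {t}, t ∈ top → ∀ z, cnt top Y (z + t) = cnt H2 Y z := fun {t} ht z =>
    cnt_shift Y (fun v => by
      rw [m2, mt, nsmul_add, mt.1 ht]
      exact ⟨fun h => by rw [h, hz₀add], fun h => by linear_combination h - hz₀add⟩) z
  have qT : ∀ {t}, t ∈ top → ∀ z, cnt H2 Y (z + t) = cnt top Y z := fun {t} ht z =>
    cnt_shift Y (fun v => by
      rw [m2, mt, nsmul_add, mt.1 ht]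
      exact ⟨fun h => by rw [h, zero_add], fun h => by linear_combination h⟩) z
  have qpos : ∀ {y}, y ∈ Y → 0 < cnt H2 Y y := fun {y} hy =>
    cnt_pos (v := 0) (m2.2 (nsmul_zero _)) (by rwa [zero_add])
  have hQ' : ∀ {z}, 0 < cnt top Y z → ∃ y ∈ Y, cnt top Y z = cnt H2 Y y := by
    intro z hz
    obtain ⟨v, hv⟩ := Finset.card_pos.1 hz
    rw [Finset.mem_filter] at hv
    refine ⟨v + z, hv.2, ?_⟩
    rw [add_comm, qT hv.1]
  -- the ambient subgroups
  have hpH : ¬ m ∣ 2 * hh := fun h => by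
    have h1 : p ∣ 2 ^ (e' + 1) := hpm.trans (by rwa [pow_succ'])
    exact hp2 ((Nat.prime_dvd_prime_iff_eq hp Nat.prime_two).1 (hp.dvd_of_dvd_pow h1))
  have hXL : ∀ x ∈ T.X, x ∈ (ker (2 * hh) : AddSubgroup (ZMod m)) := fun x hx =>
    mem_ker.2 (addOrderOf_dvd_iff_nsmul_eq_zero.2 (Finset.mem_filter.1 (hXH x hx)).2)
  have hHL : ∀ x ∈ H, x ∈ (ker (2 * hh) : AddSubgroup (ZMod m)) := fun x hx =>
    mem_ker.2 (addOrderOf_dvd_iff_nsmul_eq_zero.2 (Finset.mem_filter.1 hx).2)
  have hXp : ∀ x ∈ T.X, ¬ p ∣ addOrderOf x := fun x hx h => by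
    obtain ⟨j, hj⟩ := hpow x hx
    exact hp2 ((Nat.prime_dvd_prime_iff_eq hp Nat.prime_two).1 (hp.dvd_of_dvd_pow (hj ▸ h)))
  have hp' : (ker (ordCompl[p] m) : AddSubgroup (ZMod m)) ≠ ⊤ :=
    ker_ne_top fun h => Nat.not_dvd_ordCompl hp (NeZero.ne m) (hpm.trans h)
  obtain ⟨c, hc1, hc2⟩ := hat.exists_count hm hne
  have hsum := T.sum_eq hc1 hc2
  have hX2 : 2 * (c + 1) ≤ Y.card := T.two_cosets_card hne (ker_ne_top hpH) hXL hc2
  obtain ⟨yy, hyy⟩ := T.Y_nonempty hne
  obtain ⟨yy', hyy', hne'⟩ := T.two_cosets hne (ker_ne_top hpH) hXL hyy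
  have hblock : cnt H2 Y yy + cnt top Y yy + (cnt H2 Y yy' + cnt top Y yy') ≤ Y.card := by
    rw [← cnt_union hdisj.symm, ← cnt_union hdisj.symm]
    exact cnt_add_le (fun v hv => hHL v (mH (Finset.mem_union.1 hv))) hne'
  set W := T.X.filter (fun x => hh • x = 0) with hWdef
  have hW2 : ∀ {w}, w ∈ W → w ∈ T.X ∧ w ∈ H2 := fun {w} hw => by
    simpa [hWdef, m2] using hw
  have hXW : T.X = top ∪ W := by
    ext x
    rw [Finset.mem_union]
    constructor
    · intro hx
      rcases hsplit x (hXH x hx) with h | h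
      · exact Or.inr (Finset.mem_filter.2 ⟨hx, m2.1 h⟩)
      · exact Or.inl h
    · rintro (h | h)
      · exact htopX x h
      · exact (hW2 h).1
  have hdW : Disjoint top W := hdisj.mono_right fun w hw => (hW2 hw).2
  rcases W.eq_empty_or_nonempty with hW | hW
  · -- only the top layer
    have hX : T.X = top := by rw [hXW, hW, Finset.union_empty]
    rw [hX] at hsum hc2
    have hX2in : ∀ {g}, g ∈ H2 → cnt top top g = hh := by
      intro g hg
      rw [← ctop, cnt, Finset.filter_eq_self.2]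
      intro v hv
      rw [mt, nsmul_add, mt.1 hv, m2.1 hg, add_zero]
    have hX2out : ∀ {g}, hh • g ≠ 0 → cnt top top g = 0 := by
      intro g hg
      rw [cnt, Finset.card_eq_zero, Finset.filter_eq_empty_iff]
      intro v hv hvg
      rw [mt, nsmul_add, mt.1 hv] at hvg
      exact hg (add_eq_left.1 hvg)
    rw [Finset.sum_eq_zero (fun x hx => hX2out (by rw [mt.1 hx]; exact hz₀ne)), add_zero, ctop] at hsum
    have hsq : ∀ {g : ZMod m}, g ≠ 0 →
        ∃ z, cnt top top g + cnt Y Y g = 2 * cnt top Y z := by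
      intro g hg
      obtain ⟨z, hz⟩ := T.exists_sqR_eq hm hg
      simp only [Blk.sqC, Blk.sqR, hX] at hz
      exact ⟨z, hz⟩
    obtain ⟨G0, hG0⟩ : ∃ G, G = H2.erase 0 := ⟨_, rfl⟩
    have hG0m : ∀ {g}, g ∈ G0 ↔ g ≠ 0 ∧ g ∈ H2 := by simp [hG0]
    have hQ1 : ∀ {y}, y ∈ Y → cnt H2 Y y = cnt G0 Y y + 1 := by
      intro y hy
      have h0 : (0 : ZMod m) ∈ H2 := m2.2 (nsmul_zero _)
      have h1 : cnt ({0} : Finset (ZMod m)) Y y = 1 := by
        rw [cnt, Finset.filter_singleton, if_pos (by rwa [zero_add]), Finset.card_singleton]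
      rw [← Finset.insert_erase h0, ← hG0, Finset.insert_eq,
        cnt_union (by simp [hG0]), h1, add_comm]
    -- cross elements
    have hcross : ∀ {y}, y ∈ Y → ∃ s ∈ Y, p ∣ addOrderOf (s - y) := by
      intro y hy
      obtain ⟨s, hs, h⟩ := T.two_cosets hne hp' (fun x hx => (mem_ker_compl hp).2 (hXp x hx)) hy
      exact ⟨s, hs, not_not.1 fun hn => h ((mem_ker_compl hp).2 hn)⟩
    have hval : ∀ {y s}, y ∈ Y → s ∈ Y → p ∣ addOrderOf (s - y) →
        ∃ w ∈ Y, cnt Y Y (s - y) = 2 * cnt H2 Y w ∧ p ∣ cnt H2 Y w ∧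
          cnt top top (s - y) = 0 ∧ s - y ≠ 0 := by
      intro y s hy hs hd
      have hx0 : s - y ≠ 0 := fun h => hp.not_dvd_one (by rwa [h, addOrderOf_zero] at hd)
      have hout : hh • (s - y) ≠ 0 := fun h => by
        have h1 := hd.trans (addOrderOf_dvd_iff_nsmul_eq_zero.2 h)
        exact hp2 ((Nat.prime_dvd_prime_iff_eq hp Nat.prime_two).1 (hp.dvd_of_dvd_pow h1))
      obtain ⟨z, hz⟩ := hsq hx0
      rw [hX2out hout, zero_add] at hz
      have hpos : 0 < cnt Y Y (s - y) := cnt_pos hy (by rwa [add_sub_cancel])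
      obtain ⟨w, hw, hzw⟩ := hQ' (z := z) (by omega)
      have h3 := T.dvd_cnt hm hp hp2 hXp hd
      rw [← hY, hz, hzw] at h3
      exact ⟨w, hw, by rw [hz, hzw], (hp.dvd_mul.1 h3).resolve_left
        (fun h => hp2 ((Nat.prime_dvd_prime_iff_eq hp Nat.prime_two).1 h)), hX2out hout, hx0⟩
    rcases Nat.eq_zero_or_pos c with hc0 | hcpos
    · subst hc0
      obtain ⟨y₀, hy₀, hN⟩ := Y.exists_max_image (fun y => cnt H2 Y y) ⟨yy, hyy⟩
      obtain ⟨N, hNdef⟩ : ∃ N, N = cnt H2 Y y₀ := ⟨_, rfl⟩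
      rw [← hNdef] at hN
      have hOle : ∀ z, cnt top Y z ≤ N := by
        intro z
        rcases Nat.eq_zero_or_pos (cnt top Y z) with h | h
        · omega
        · obtain ⟨w, hw, he⟩ := hQ' h
          rw [he]
          exact hN w hw
      obtain ⟨C0, hC0⟩ : ∃ C, C = Y.filter fun y => y - y₀ ∈ H2 := ⟨_, rfl⟩
      have hQC0 : ∀ {y}, y ∈ C0 → cnt H2 Y y = N := by
        intro y hy
        rw [hC0, Finset.mem_filter] at hy
        rw [hNdef, show y = y₀ + (y - y₀) by abel]
        exact cnt_shift Y (fun v => by rw [m2, m2, nsmul_add, m2.1 hy.2, add_zero]) y₀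
      have cC0 : C0.card = N := by
        rw [hNdef, hC0, cnt]
        exact Finset.card_equiv (Equiv.subRight y₀) fun v => by
          simp [and_comm]
      have hNpos : 0 < N := hNdef ▸ qpos hy₀
      have cG0 : G0.card = hh - 1 := by
        rw [hG0, Finset.card_erase_of_mem (m2.2 (nsmul_zero _)), cH2]
      have hA : ∀ g ∈ G0, hh + cnt Y Y g ≤ 2 * N := by
        intro g hg
        obtain ⟨z, hz⟩ := hsq (hG0m.1 hg).1
        rw [hX2in (hG0m.1 hg).2] at hz
        have := hOle z
        omega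
      have hS1 : ∑ g ∈ G0, cnt Y Y g = N * (N - 1) + ∑ y ∈ Y \ C0, cnt G0 Y y := by
        rw [sum_cnt, ← Finset.sum_sdiff (hC0 ▸ Finset.filter_subset _ Y : C0 ⊆ Y), add_comm]
        congr 1
        rw [Finset.sum_congr rfl (g := fun _ => N - 1), Finset.sum_const, cC0, smul_eq_mul]
        intro y hy
        have h1 := hQ1 (Finset.mem_filter.1 (hC0 ▸ hy)).1
        have h2 := hQC0 hy
        omega
      have hS2 := Finset.sum_le_sum hA
      rw [Finset.sum_add_distrib, hS1, Finset.sum_const, Finset.sum_const, cG0, smul_eq_mul,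
        smul_eq_mul] at hS2
      obtain ⟨hk1', hk2', hR, heq⟩ := nat_layer hNpos hhpos hS2
      obtain ⟨s₀, hs₀, hd₀⟩ := hcross hy₀
      have hrest : ∑ y ∈ Y \ C0, cnt G0 Y y = 0 ∧
          (hh = N + 1 → ∀ g ∈ G0, hh + cnt Y Y g = 2 * N) := by
        refine ⟨hR, fun _ => (Finset.sum_eq_sum_iff_of_le hA).1 ?_⟩
        rw [Finset.sum_add_distrib, hS1, Finset.sum_const, Finset.sum_const, cG0, smul_eq_mul,
          smul_eq_mul]
        exact heq
      have hout : ∀ y ∈ Y, y ∉ C0 → cnt H2 Y y = 1 := by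
        intro y hy hy'
        have h1 := (Finset.sum_eq_zero_iff.1 hrest.1) y (Finset.mem_sdiff.2 ⟨hy, hy'⟩)
        rw [hQ1 hy, h1]
      have hvals : ∀ {y}, y ∈ Y → cnt H2 Y y = 1 ∨ cnt H2 Y y = N := by
        intro y hy
        by_cases h : y ∈ C0
        · exact Or.inr (hQC0 h)
        · exact Or.inl (hout y hy h)
      have hcrossN : ∀ {y s}, y ∈ Y → s ∈ Y → p ∣ addOrderOf (s - y) →
          T.sqC (s - y) = 2 * N ∧ p ∣ N ∧ s - y ≠ 0 := by
        intro y s hy hs hd
        obtain ⟨w, hw, h1, h2, h3, h4⟩ := hval hy hs hd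
        rcases hvals hw with h | h
        · exact absurd (h ▸ h2) hp.not_dvd_one
        · rw [h] at h1 h2
          exact ⟨by simp only [Blk.sqC, hX, ← hY, h3, h1, zero_add], h2, h4⟩
      obtain ⟨-, hpN, -⟩ := hcrossN hy₀ hs₀ hd₀
      have hN3 : 3 ≤ N := le_trans (by have := hp.two_le; omega) (Nat.le_of_dvd hNpos hpN)
      have hhN : hh = N + 1 := by
        rcases (show hh = N ∨ hh = N + 1 by omega) with h | h
        · exact absurd (hp.dvd_of_dvd_pow (show p ∣ 2 ^ e' by rw [← hhh, h]; exact hpN))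
            fun h' => hp2 ((Nat.prime_dvd_prime_iff_eq hp Nat.prime_two).1 h')
        · exact h
      -- the level set
      let F : DihedralGroup m → ℕ := fun z => match z with
        | r i => T.sqC i
        | sr i => T.sqR i
      have hF : S.Inv F := by
        have h := (T.sq_adm ℤ).comp Int.toNat
        convert h using 2 with z
        rcases z with i | i <;> simp [F]
      have hI : S.Inv fun z => if z = 1 then (0 : ℤ) else if F z = 2 * N then 1 else 0 :=
        (hF.comp fun v => if v = 2 * N then (1 : ℤ) else 0).punct 0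
      let XI := univ.filter fun g : ZMod m => g ≠ 0 ∧ T.sqC g = 2 * N
      let YI := univ.filter fun z : ZMod m => cnt top Y z = N
      have hIadm : S.Adm (ind ℤ XI) (ind ℤ YI) := by
        convert Sys.adm_of_inv hI using 1 <;> refine K.ext fun x => ?_
        · simp only [ind_coeff, el_coeff, XI, Finset.mem_filter, Finset.mem_univ, true_and, F]
          by_cases hx : x = 0
          · subst hx; simp [show (r 0 : DihedralGroup m) = 1 from one_def.symm]
          · rw [if_neg (c := (r x = 1)) (by rw [one_def, r.injEq]; exact hx)]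
            simp [hx]
        · simp only [ind_coeff, el_coeff, YI, Finset.mem_filter, Finset.mem_univ, true_and, F]
          rw [if_neg (c := (sr x = 1)) (fun h => by cases h)]
          simp [Blk.sqR, hX, ← hY]
      have hIrat : IsRat (ind ℤ XI) := by
        intro x y hxy
        simp only [ind_coeff, XI, Finset.mem_filter, Finset.mem_univ, true_and]
        refine if_congr ?_ rfl rfl
        have h1 := T.sq_isRat hm x y hxy
        simp only [el_coeff, Nat.cast_inj] at h1
        rw [h1, ne_eq, ne_eq, ← AddMonoid.addOrderOf_eq_one_iff, hxy, AddMonoid.addOrderOf_eq_one_iff]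
      have hP := hIadm.mul T.adm
      have hPr := hIadm.mul_isRat hm hIrat T.adm T.isRat
      have hfinal := hat.const hm hP hPr (htopX x₀ hx₀top) hy₀
      rw [AddMonoidAlgebra.coeff_add, Finsupp.add_apply, AddMonoidAlgebra.coeff_add,
        Finsupp.add_apply, star'_ind_mul, mul_comm (ind ℤ YI), T.X_mul_coeff] at hfinal
      have hstarI : star' (ind ℤ XI) = ind ℤ XI :=
        K.ext fun x => by rw [star'_coeff]; exact hIrat (-x) x (addOrderOf_neg x)
      have hl1 : (ind ℤ XI * ind ℤ T.Y).coeff y₀ = (cnt XI Y y₀ : ℤ) := by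
        rw [← star'_ind_mul (R := ℤ) XI Y y₀, hstarI]
      have hl2 : (ind ℤ XI * ind ℤ T.X).coeff x₀ = (cnt XI top x₀ : ℤ) := by
        rw [hX, ← star'_ind_mul (R := ℤ) XI top x₀, hstarI]
      rw [hl1, hl2, hX, ← hY] at hfinal
      have e1 : cnt XI top x₀ = hh - 1 := by
        rw [← cG0, cnt]
        congr 1
        ext i
        simp only [XI, Finset.mem_filter, Finset.mem_univ, true_and, hG0m, mt, m2, nsmul_add, ← hz₀,
          add_eq_right]
        refine ⟨fun h => ⟨h.1.1, h.2⟩, fun h => ⟨⟨h.1, ?_⟩, h.2⟩⟩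
        have := hrest.2 hhN i (hG0m.2 ⟨h.1, m2.2 h.2⟩)
        simp only [Blk.sqC, hX, ← hY, hX2in (m2.2 h.2), this]
      have e2 : cnt YI Y x₀ ≤ N := by
        rw [← cC0, cnt]
        refine Finset.card_le_card_of_injOn (fun z => z + x₀) (fun z hz => ?_)
          (fun a _ b _ h => add_right_cancel h)
        simp only [YI, Finset.coe_filter, Set.mem_setOf_eq, Finset.mem_filter, Finset.mem_univ,
          true_and] at hz
        rw [Finset.mem_coe]
        by_contra hn
        have h1 := hout _ hz.2 hn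
        rw [qT hx₀top, hz.1] at h1
        omega
      have e3 : N ≤ cnt XI Y y₀ := by
        have hsub : insert (s₀ - y₀) (G0.filter fun v => v + y₀ ∈ Y) ⊆ XI.filter fun v => v + y₀ ∈ Y := by
          intro i hi
          simp only [Finset.mem_insert, Finset.mem_filter, XI, Finset.mem_univ, true_and] at hi ⊢
          rcases hi with rfl | ⟨hi, hi'⟩
          · exact ⟨⟨(hcrossN hy₀ hs₀ hd₀).2.2, (hcrossN hy₀ hs₀ hd₀).1⟩, by rwa [sub_add_cancel]⟩
          · refine ⟨⟨(hG0m.1 hi).1, ?_⟩, hi'⟩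
            have := hrest.2 hhN i hi
            simp only [Blk.sqC, hX, ← hY, hX2in (hG0m.1 hi).2, this]
        refine le_trans (le_of_eq ?_) (Finset.card_le_card hsub)
        rw [Finset.card_insert_of_notMem]
        · exact hNdef.trans (hQ1 hy₀)
        · intro hi
          rw [Finset.mem_filter, hG0m, m2] at hi
          have h1 := hd₀.trans (addOrderOf_dvd_iff_nsmul_eq_zero.2 hi.1.2)
          exact hp2 ((Nat.prime_dvd_prime_iff_eq hp Nat.prime_two).1 (hp.dvd_of_dvd_pow h1))
      have e4 : cnt top YI y₀ = hh := by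
        rw [← ctop, cnt, Finset.filter_eq_self.2]
        intro v hv
        simp only [YI, Finset.mem_filter, Finset.mem_univ, true_and]
        rw [add_comm, oT hv, ← hNdef]
      rw [e1, e4] at hfinal
      push_cast at hfinal
      omega
    · -- positive count
      have hQc : ∀ {y}, y ∈ Y → cnt H2 Y y = c := by
        intro y hy
        have h1 : 0 < cnt top Y y := by rw [hc2 y hy]; exact hcpos
        obtain ⟨v, hv⟩ := Finset.card_pos.1 h1
        rw [Finset.mem_filter] at hv
        rw [← oT hv.1, add_comm, hc2 _ hv.2]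
      have hO : ∀ z, cnt top Y z ≤ c := by
        intro z
        rcases Nat.eq_zero_or_pos (cnt top Y z) with h | h
        · omega
        · obtain ⟨w, hw, he⟩ := hQ' h
          rw [he, hQc hw]
      have hk : Y.card = 2 * hh := Nat.eq_of_mul_eq_mul_right hcpos (by rw [hsum]; ring)
      rw [hQc hyy, hQc hyy', hc2 yy hyy, hc2 yy' hyy', hk] at hblock
      have hA0 : ∀ g ∈ G0, cnt Y Y g = 0 ∧ hh = 2 * c := by
        intro g hg
        obtain ⟨z, hz⟩ := hsq (hG0m.1 hg).1
        rw [hX2in (hG0m.1 hg).2] at hz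
        have := hO z
        omega
      have hQone : c = 1 := by
        rw [← hQc hyy, hQ1 hyy]
        have : cnt G0 Y yy = 0 := by
          rw [cnt, Finset.card_eq_zero, Finset.filter_eq_empty_iff]
          intro v hv hvy
          have h1 := cnt_pos (A := Y) (B := Y) (g := v) hyy (by rwa [add_comm])
          have h2 := (hA0 v hv).1
          omega
        omega
      obtain ⟨s, hs, hd⟩ := hcross hyy
      obtain ⟨w, hw, -, h2, -⟩ := hval hyy hs hd
      rw [hQc hw, hQone] at h2
      exact hp.not_dvd_one h2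
  · -- several layers
    have he : 0 < W.card := hW.card_pos
    have hcardX : T.X.card = hh + W.card := by rw [hXW, Finset.card_union_of_disjoint hdW, ctop]
    have hXlt : T.X.card ≤ 2 * hh - 1 := by
      rw [← cH, ← Finset.card_erase_of_mem (mH (Or.inl (m2.2 (nsmul_zero hh))) : (0 : ZMod m) ∈ H)]
      exact Finset.card_le_card fun x hx =>
        Finset.mem_erase.2 ⟨fun h => T.zero (h ▸ hx), hXH x hx⟩
    have hgen : ∀ v ∈ T.X, 2 * T.X.card ≤ cnt T.X T.X v + 2 * hh := by
      intro v hv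
      have h1 : T.X ∪ T.X.map (addRightEmbedding (-v)) ⊆ H := by
        intro x hx
        rcases Finset.mem_union.1 hx with hx | hx
        · exact hXH x hx
        · obtain ⟨u, hu, rfl⟩ := Finset.mem_map.1 hx
          have a1 := (Finset.mem_filter.1 (hXH u hu)).2
          have a2 := (Finset.mem_filter.1 (hXH v hv)).2
          rw [hH, Finset.mem_filter, addRightEmbedding_apply, nsmul_add, neg_nsmul, a1, a2]
          simp
      have h2 := Finset.card_union_add_card_inter T.X (T.X.map (addRightEmbedding (-v)))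
      have h3 : T.X ∩ T.X.map (addRightEmbedding (-v)) = T.X.filter fun u => u + v ∈ T.X := by
        ext u; simp [eq_comm, eq_neg_iff_add_eq_zero, ← sub_eq_add_neg, eq_sub_iff_add_eq]
      have h4 := Finset.card_le_card h1
      rw [Finset.card_map] at h2
      rw [h3, ← cnt] at h2
      omega
    have hS0 : T.X.card * (2 * T.X.card) ≤ (∑ x ∈ T.X, cnt T.X T.X x) + T.X.card * (2 * hh) := by
      have h := Finset.sum_le_sum hgen
      rw [Finset.sum_add_distrib, Finset.sum_const, Finset.sum_const, smul_eq_mul, smul_eq_mul] at h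
      exact h
    by_cases hbig : 4 * hh ≤ 3 * T.X.card
    · exact nat_large_case hX2 hsum hS0 hbig hne.card_pos
    push Not at hbig
    rw [hcardX] at hbig hsum
    have htopW : ∀ v ∈ top, 2 * W.card ≤ cnt T.X T.X v := by
      intro v hv
      have hsub : W ∪ W.map (addRightEmbedding (-v)) ⊆ T.X.filter fun u => u + v ∈ T.X := by
        intro u hu
        rw [Finset.mem_filter]
        rcases Finset.mem_union.1 hu with hu | hu
        · refine ⟨(hW2 hu).1, htopX _ ?_⟩
          rw [mt, nsmul_add, mt.1 hv, m2.1 (hW2 hu).2, zero_add]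
        · obtain ⟨w, hw, rfl⟩ := Finset.mem_map.1 hu
          rw [addRightEmbedding_apply]
          refine ⟨htopX _ ?_, by rw [neg_add_cancel_right]; exact (hW2 hw).1⟩
          rw [mt, nsmul_add, neg_nsmul, mt.1 hv, m2.1 (hW2 hw).2, zero_add]
          exact neg_eq_of_add_eq_zero_left hz₀add
      refine le_trans ?_ (Finset.card_le_card hsub)
      rw [Finset.card_union_of_disjoint, Finset.card_map]
      · omega
      · rw [Finset.disjoint_left]
        intro u hu hu'
        obtain ⟨w, hw, rfl⟩ := Finset.mem_map.1 hu'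
        have h1 := m2.1 (hW2 hu).2
        rw [addRightEmbedding_apply, nsmul_add, neg_nsmul, m2.1 (hW2 hw).2, mt.1 hv, zero_add,
          neg_eq_zero] at h1
        exact hz₀ne h1
    have hWtop : ∀ w ∈ W, hh ≤ cnt T.X T.X w := by
      intro w hw
      rw [← ctop]
      refine Finset.card_le_card fun u hu => Finset.mem_filter.2 ⟨htopX u hu, htopX _ ?_⟩
      rw [mt, nsmul_add, mt.1 hu, m2.1 (hW2 hw).2, add_zero]
    have hS : hh * (2 * W.card) + W.card * hh ≤ ∑ x ∈ T.X, cnt T.X T.X x := by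
      rw [hXW, Finset.sum_union hdW]
      refine Nat.add_le_add ?_ ?_
      · rw [← ctop, ← smul_eq_mul, ← Finset.sum_const]
        exact Finset.sum_le_sum fun v hv => hXW ▸ htopW v hv
      · rw [← smul_eq_mul, ← Finset.sum_const]
        exact Finset.sum_le_sum fun w hw => hXW ▸ hWtop w hw
    obtain ⟨w₀, hw₀⟩ := hW
    have hcw : hh + cnt Y Y w₀ ≤ 2 * c := by
      have := hc1 w₀ (hW2 hw₀).1
      have := hWtop w₀ hw₀
      simp only [Blk.sqC, ← hY] at *
      omega
    have hopp : ∀ {y}, y ∈ Y → cnt top Y y + cnt W Y y = c := fun {y} hy => by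
      rw [← cnt_union hdW, ← hXW, hc2 y hy]
    have hWle : ∀ y, cnt W Y y ≤ W.card := fun y => Finset.card_filter_le _ _
    have hlow : ∀ d, (∀ {y}, y ∈ Y → d ≤ cnt top Y y) → 0 < d → 4 * d ≤ Y.card := by
      intro d hd hdpos
      have hQ : ∀ {y}, y ∈ Y → d ≤ cnt H2 Y y := by
        intro y hy
        have h1 := hd hy
        obtain ⟨v, hv⟩ := Finset.card_pos.1 (show 0 < cnt top Y y by omega)
        rw [Finset.mem_filter] at hv
        rw [← oT hv.1, add_comm]
        exact hd hv.2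
      have := hQ hyy
      have := hQ hyy'
      have := hd hyy
      have := hd hyy'
      omega
    have hk1 : 4 * (c - W.card) ≤ Y.card :=
      hlow _ (fun {y} hy => by have := hopp hy; have := hWle y; omega) (by omega)
    obtain ⟨u, hu⟩ : ∃ u, c = W.card + u := ⟨c - W.card, by omega⟩
    rw [hu, Nat.add_sub_cancel_left] at hk1
    have h2c : 2 * c = hh := nat_two_c hu hk1 hsum hS (by omega) (by omega)
    have hA : ∀ w ∈ W, cnt Y Y w = 0 := by
      intro w hw
      have := hc1 w (hW2 hw).1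
      have := hWtop w hw
      simp only [Blk.sqC, ← hY] at *
      omega
    have hO : ∀ {y}, y ∈ Y → c ≤ cnt top Y y := by
      intro y hy
      have h1 : cnt W Y y = 0 := by
        rw [cnt, Finset.card_eq_zero, Finset.filter_eq_empty_iff]
        intro w hw hwy
        have h2 := cnt_pos (A := Y) (B := Y) (g := w) hy (by rwa [add_comm])
        have h3 := hA w hw
        omega
      have := hopp hy
      omega
    exact nat_four_c (hlow c hO (by omega)) hsum hS h2c he (by omega)

end H88.Dih
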