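import Cfsg.Agent.H88.Dihedral.Classes

/-!
A set of residues modulo a power of two whose character value has norm a positive power of four is
invariant under translation by the element of order two.
-/

set_option autoImplicit false
set_option linter.style.haveILetI false
set_option linter.unusedSectionVars false

namespace H88.Dih

open Polynomial Finset

variable {m : ℕ} [NeZero m]

theorem chr_nsmul (n : ℕ) (x : ZMod m) : chr (n • x) = chr x ^ n := AddChar.map_nsmul_eq_pow _ n x

theorem chr_eq_pow (x : ZMod m) : chr x = chr (1 : ZMod m) ^ x.val := by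
  rw [← chr_nsmul, nsmul_eq_mul, mul_one, ZMod.natCast_zmod_val]

theorem chr_neg_eq_pow (x : ZMod m) : chr (-x) = chr (-1 : ZMod m) ^ x.val := by
  rw [← chr_nsmul, nsmul_eq_mul, mul_neg, mul_one, ZMod.natCast_zmod_val]

/-- Elements with equal values at a primitive root of two power order have equal parity at one. -/
theorem parity_of_aeval_eq {b : ℕ} {z : ℂ} (hz : IsPrimitiveRoot z (2 ^ (b + 1))) {P R : ℤ[X]}
    (h : aeval z P = aeval z R) : ((P.eval 1 : ℤ) : ZMod 2) = ((R.eval 1 : ℤ) : ZMod 2) := by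
  have hpos : 0 < 2 ^ (b + 1) := by positivity
  obtain ⟨q, hq⟩ : cyclotomic (2 ^ (b + 1)) ℤ ∣ P - R := by
    rw [cyclotomic_eq_minpoly hz hpos]
    exact minpoly.isIntegrallyClosed_dvd (hz.isIntegral hpos) (by rw [map_sub, h, sub_self])
  haveI := Fact.mk Nat.prime_two
  have h1 := congrArg (eval (1 : ℤ)) hq
  rw [eval_sub, eval_mul, eval_one_cyclotomic_prime_pow] at h1
  have h2 := congrArg (Int.cast : ℤ → ZMod 2) h1
  rw [Int.cast_sub, Int.cast_mul, Int.cast_natCast, ZMod.natCast_self, zero_mul, sub_eq_zero] at h2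
  exact h2

theorem decompose (Q : ℤ[X]) : ∀ n : ℕ,
    (∃ j < n, ∃ c e : ℤ[X], Q = (X - 1) ^ j * c + 2 * e ∧ ((c.eval 1 : ℤ) : ZMod 2) = 1) ∨
      ∃ c e : ℤ[X], Q = (X - 1) ^ n * c + 2 * e := by
  intro n
  induction n with
  | zero => exact Or.inr ⟨Q, 0, by ring⟩
  | succ n ih =>
    rcases ih with ⟨j, hj, h⟩ | ⟨c, e, h⟩
    · exact Or.inl ⟨j, hj.trans n.lt_succ_self, h⟩
    rcases (show ((c.eval 1 : ℤ) : ZMod 2) = 0 ∨ ((c.eval 1 : ℤ) : ZMod 2) = 1 by
      generalize ((c.eval 1 : ℤ) : ZMod 2) = t; revert t; decide) with h1 | h1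
    · right
      obtain ⟨t, ht⟩ := (ZMod.intCast_zmod_eq_zero_iff_dvd (c.eval 1) 2).1 h1
      obtain ⟨c', hc'⟩ : X - C (1 : ℤ) ∣ c - C (c.eval 1) := X_sub_C_dvd_sub_C_eval
      refine ⟨c', e + (X - 1) ^ n * C t, ?_⟩
      rw [ht, map_mul, sub_eq_iff_eq_add, map_one] at hc'
      rw [h, hc', pow_succ]
      simp only [Nat.cast_ofNat, map_ofNat]
      ring
    · exact Or.inl ⟨n, n.lt_succ_self, c, e, h, h1⟩

/-- The polynomial of the folded coefficient function. -/
noncomputable def fold (m M : ℕ) (f : ZMod m → ℤ) : ℤ[X] :=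
  ∑ j ∈ Finset.range M, C (f j - f ((j + M : ℕ) : ZMod m)) * X ^ j

theorem aeval_fold {M : ℕ} (hM : m = M + M) (f : ZMod m → ℤ) {t : ℂ} (ht : t ^ M = -1) :
    ∑ x : ZMod m, (f x : ℂ) * t ^ x.val = aeval t (fold m M f) := by
  have h1 : ∑ x : ZMod m, (f x : ℂ) * t ^ x.val = ∑ j ∈ Finset.range (M + M), (f j : ℂ) * t ^ j := by
    refine Finset.sum_nbij' ZMod.val (fun j => (j : ZMod m)) (fun x _ => ?_) (fun j _ => Finset.mem_univ _)
      (fun x _ => ZMod.natCast_zmod_val x) (fun j hj => ?_) (fun x _ => by rw [ZMod.natCast_zmod_val])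
    · rw [Finset.mem_range, ← hM]; exact ZMod.val_lt x
    · exact ZMod.val_natCast_of_lt (by rw [hM]; exact Finset.mem_range.1 hj)
  rw [h1, Finset.sum_range_add, fold, map_sum, ← Finset.sum_add_distrib]
  refine Finset.sum_congr rfl fun j _ => ?_
  rw [map_mul, aeval_C, map_pow, aeval_X, add_comm j M, pow_add, ht]
  simp [eq_intCast]
  ring

theorem coeff_fold {M : ℕ} (f : ZMod m → ℤ) {j : ℕ} (hj : j < M) :
    (fold m M f).coeff j = f j - f ((j + M : ℕ) : ZMod m) := by
  rw [fold, finsetSum_coeff, Finset.sum_eq_single j]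
  · rw [coeff_C_mul_X_pow, if_pos rfl]
  · intro i _ hij
    rw [coeff_C_mul_X_pow, if_neg (Ne.symm hij)]
  · intro h
    exact absurd (Finset.mem_range.2 hj) h

theorem invariant_of_norm {b : ℕ} (hm : m = 2 ^ (b + 1)) (Y : Finset (ZMod m)) {i : ℕ} (hi : 0 < i)
    (hY : chi (star' (el fun x => if x ∈ Y then (1 : ℤ) else 0)) *
      chi (el fun x => if x ∈ Y then (1 : ℤ) else 0) = (4 : ℂ) ^ i) (y : ZMod m) :
    y ∈ Y ↔ y + ((2 ^ b : ℕ) : ZMod m) ∈ Y := by
  haveI := Fact.mk Nat.prime_two
  set M := 2 ^ b with hM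
  have hMpos : 0 < M := by positivity
  have hmM : m = M + M := by rw [hm, pow_succ]; ring
  set f : ZMod m → ℤ := fun x => if x ∈ Y then 1 else 0 with hf
  set z : ℂ := chr (1 : ZMod m) with hz
  set z' : ℂ := chr (-1 : ZMod m) with hz'
  have hzz : z * z' = 1 := by rw [hz, hz', ← chr_add, add_neg_cancel, chr_zero]
  have hprim : IsPrimitiveRoot z (2 ^ (b + 1)) := by
    rw [← hm]
    refine (IsPrimitiveRoot.iff (NeZero.pos m)).2 ⟨?_, fun l hl hlm he => ?_⟩
    · rw [hz, ← chr_nsmul, nsmul_eq_mul, mul_one, ZMod.natCast_self, chr_zero]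
    · rw [hz, ← chr_nsmul, nsmul_eq_mul, mul_one, ← chr_zero (m := m)] at he
      have h := congrArg ZMod.val (chr_injective he)
      rw [ZMod.val_natCast_of_lt hlm, ZMod.val_zero] at h
      omega
  have hM0 : ((M : ℕ) : ZMod m) ≠ 0 := fun h => by
    have := congrArg ZMod.val h
    rw [ZMod.val_natCast_of_lt (by omega), ZMod.val_zero] at this
    omega
  have hneg : ∀ e : ZMod m, e = 1 ∨ e = -1 → chr e ^ M = -1 := by
    intro e he
    have h1 : M • e ≠ 0 := by
      rcases he with rfl | rfl <;> simpa [nsmul_eq_mul] using hM0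
    have h2 : chr e ^ M * chr e ^ M = 1 := by
      rw [← pow_add, ← hmM, ← chr_nsmul, nsmul_eq_mul, ZMod.natCast_self, zero_mul, chr_zero]
    rcases mul_self_eq_one_iff.1 h2 with h | h
    · rw [← chr_nsmul, ← chr_zero (m := m)] at h
      exact absurd (chr_injective h) h1
    · exact h
  set Q := fold m M f with hQ
  have hq1 : chi (el f) = aeval z Q := by
    rw [← aeval_fold hmM f (hneg 1 (Or.inl rfl))]
    exact Finset.sum_congr rfl fun x _ => by rw [el_coeff, chr_eq_pow]
  have hq2 : chi (star' (el f)) = aeval z' Q := by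
    rw [← aeval_fold hmM f (hneg (-1) (Or.inr rfl)), chi, ← Equiv.sum_comp (Equiv.neg (ZMod m))]
    exact Finset.sum_congr rfl fun x _ => by
      rw [Equiv.neg_apply, star'_coeff, el_coeff, neg_neg, chr_neg_eq_pow]
  rw [hq1, hq2] at hY
  -- the two
  obtain ⟨R, hR⟩ : C (2 : ℤ) ∣ (X - 1) ^ M - (X ^ M + 1) := by
    rw [C_dvd_iff_dvd_coeff]
    intro n
    rw [show (2 : ℤ) = ((2 : ℕ) : ℤ) by norm_num, ← ZMod.intCast_zmod_eq_zero_iff_dvd,
      ← eq_intCast (Int.castRingHom (ZMod 2)), ← coeff_map]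
    simp only [Polynomial.map_sub, Polynomial.map_pow, map_X, Polynomial.map_one, Polynomial.map_add,
      hM, sub_pow_char_pow, one_pow]
    rw [show (X ^ 2 ^ b - 1 : (ZMod 2)[X]) - (X ^ 2 ^ b + 1) = -C (1 + 1 : ZMod 2) by
      rw [map_add, map_one]; ring]
    simp [show (1 + 1 : ZMod 2) = 0 from rfl]
  have hR1 : ((R.eval 1 : ℤ) : ZMod 2) = 1 := by
    have h := congrArg (eval (1 : ℤ)) hR
    simp [hMpos.ne'] at h
    have : R.eval 1 = -1 := by omega
    rw [this]
    rfl
  have hpiM : ∀ t : ℂ, t ^ M = -1 → (t - 1) ^ M = 2 * aeval t R := by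
    intro t ht
    have h := congrArg (aeval t) hR
    simp [ht, map_ofNat] at h
    exact h
  have hpi : z - 1 ≠ 0 := sub_ne_zero.2 fun h => by
    have h' := hneg 1 (Or.inl rfl)
    rw [← hz, h, one_pow] at h'
    norm_num at h'
  rcases decompose Q M with ⟨j, hj, c, e, hd, hc⟩ | ⟨c, e, hd⟩
  · exfalso
    set c2 := R * c + (X - 1) ^ (M - j) * e with hc2
    have hval : ∀ t : ℂ, t ^ M = -1 → aeval t R * aeval t Q = (t - 1) ^ j * aeval t c2 := by
      intro t ht
      have h : (t - 1) ^ j * (t - 1) ^ (M - j) = 2 * aeval t R := by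
        rw [← pow_add, show j + (M - j) = M by omega, hpiM t ht]
      simp only [hd, hc2, map_add, map_mul, map_pow, map_sub, aeval_X, map_one, map_ofNat]
      linear_combination -(aeval t e) * h
    set U : ℤ[X] := X ^ (m - 1) with hU
    have hzU : aeval z U = z' := by
      have h1 : z * z ^ (m - 1) = 1 := by
        rw [← pow_succ', Nat.sub_add_cancel (NeZero.pos m), hz, ← chr_nsmul, nsmul_eq_mul, mul_one,
          ZMod.natCast_self, chr_zero]
      rw [hU, map_pow, aeval_X]
      exact mul_left_cancel₀ (left_ne_zero_of_mul_eq_one h1) (h1.trans hzz.symm)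
    have h1 := hval z (hneg 1 (Or.inl rfl))
    have h2 := hval z' (hneg (-1) (Or.inr rfl))
    have hM2 : (z - 1) ^ (2 * (M - j)) * (z - 1) ^ (2 * j) = (2 * aeval z R) * (2 * aeval z R) := by
      rw [← pow_add, show 2 * (M - j) + 2 * j = M + M by omega, pow_add,
        hpiM z (hneg 1 (Or.inl rfl))]
    have hz1 : z' - 1 = -z' * (z - 1) := by linear_combination hzz
    rw [hz1, mul_pow] at h2
    obtain ⟨i', rfl⟩ : ∃ i', i = i' + 1 := ⟨i - 1, by omega⟩
    rw [pow_succ] at hY
    have key : aeval z (R * R * (c2 * ((-U) ^ j * c2.comp U))) =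
        aeval z ((X - 1) ^ (2 * (M - j)) * (4 ^ i' * (R * R.comp U))) := by
      simp only [map_mul, map_pow, map_neg, aeval_comp, hzU, map_sub, aeval_X, map_one, map_ofNat]
      refine mul_right_cancel₀ (pow_ne_zero (2 * j) hpi) ?_
      calc aeval z R * aeval z R * (aeval z c2 * ((-z') ^ j * aeval z' c2)) * (z - 1) ^ (2 * j)
          = aeval z R * aeval z R * (((z - 1) ^ j * aeval z c2) *
            ((-z') ^ j * (z - 1) ^ j * aeval z' c2)) := by ring
        _ = aeval z R * aeval z R * ((aeval z R * aeval z Q) * (aeval z' R * aeval z' Q)) := by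
            rw [h1, h2]
        _ = aeval z R * aeval z R * (aeval z R * aeval z' R) * (4 ^ i' * 4) := by rw [← hY]; ring
        _ = (z - 1) ^ (2 * (M - j)) * (z - 1) ^ (2 * j) * (4 ^ i' * (aeval z R * aeval z' R)) := by
            rw [hM2]; ring
        _ = _ := by ring
    have hpar := parity_of_aeval_eq hprim key
    have hcv : ((c2.eval 1 : ℤ) : ZMod 2) = 1 := by
      rw [hc2]
      simp [zero_pow (show M - j ≠ 0 by omega), hR1, hc]
    simp [hU, eval_comp, zero_pow (show 2 * (M - j) ≠ 0 by omega), hR1, hcv] at hpar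
  · -- all folded coefficients are even
    have hmap : Q.map (Int.castRingHom (ZMod 2)) = (X - 1) ^ M * c.map (Int.castRingHom (ZMod 2)) := by
      rw [hd]
      simp [show (2 : (ZMod 2)[X]) = 0 from CharP.cast_eq_zero (ZMod 2)[X] 2]
    have hzero : Q.map (Int.castRingHom (ZMod 2)) = 0 := by
      by_contra hne
      have hc0 : c.map (Int.castRingHom (ZMod 2)) ≠ 0 := fun h => hne (by rw [hmap, h, mul_zero])
      have hmon : (X - 1 : (ZMod 2)[X]).Monic := by simpa using monic_X_sub_C (1 : ZMod 2)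
      have hdeg : (Q.map (Int.castRingHom (ZMod 2))).natDegree =
          M + (c.map (Int.castRingHom (ZMod 2))).natDegree := by
        rw [hmap, (hmon.pow M).natDegree_mul' hc0, hmon.natDegree_pow]
        simp [show (X - 1 : (ZMod 2)[X]).natDegree = 1 by simpa using natDegree_X_sub_C (1 : ZMod 2)]
      have hlc : (Q.map (Int.castRingHom (ZMod 2))).coeff (Q.map (Int.castRingHom (ZMod 2))).natDegree ≠ 0 :=
        leadingCoeff_ne_zero.2 hne
      rw [hdeg, coeff_map, hQ, fold, finsetSum_coeff, Finset.sum_eq_zero] at hlc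
      · exact hlc (map_zero _)
      · intro l hl
        rw [Finset.mem_range] at hl
        simp only [coeff_C_mul, coeff_X_pow]
        rw [if_neg (by omega), mul_zero]
    have hall : ∀ j, j < M → f j = f ((j + M : ℕ) : ZMod m) := by
      intro j hj
      have h := congrArg (fun P : (ZMod 2)[X] => P.coeff j) hzero
      rw [coeff_map, coeff_zero, hQ, coeff_fold f hj, eq_intCast,
        ZMod.intCast_zmod_eq_zero_iff_dvd] at h
      simp only [hf] at h ⊢
      split_ifs at h ⊢ <;> omega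
    have hy : f y = f (y + ((M : ℕ) : ZMod m)) := by
      have hv := ZMod.val_lt y
      rcases Nat.lt_or_ge y.val M with hlt | hge
      · have h := hall _ hlt
        rwa [Nat.cast_add, ZMod.natCast_zmod_val] at h
      · have h := hall (y.val - M) (by omega)
        rw [Nat.sub_add_cancel hge, Nat.cast_sub hge, ZMod.natCast_zmod_val] at h
        rw [← h]
        congr 1
        have h0 : (M : ZMod m) + M = 0 := by rw [← Nat.cast_add, ← hmM, ZMod.natCast_self]
        linear_combination -h0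
    simp only [hf] at hy
    by_cases h1 : y ∈ Y <;> by_cases h2 : y + ((M : ℕ) : ZMod m) ∈ Y <;>
      simp [h1, h2] at hy ⊢

end H88.Dih
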