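import Cfsg.Agent.H88.Dihedral.Design
import Cfsg.Agent.H88.Dihedral.TwoPow

/-!
The degenerate design does not exist.
-/

set_option autoImplicit false
set_option linter.style.haveILetI false
set_option linter.unusedSectionVars false

namespace H88.Dih

open DihedralGroup Finset Matrix

variable {m : ℕ} [NeZero m] {S : Sys m} {p : ℕ} [Fact p.Prime]

/-- Constant elements. -/
def Cst (D : K m (ZMod p)) : Prop := ∀ x y, D.coeff x = D.coeff y

theorem Cst.zero : Cst (0 : K m (ZMod p)) := fun _ _ => rfl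

theorem Cst.add {D E : K m (ZMod p)} (h : Cst D) (h' : Cst E) : Cst (D + E) :=
  fun x y => by simp [h x y, h' x y]

theorem Cst.mul {D : K m (ZMod p)} (h : Cst D) (u : K m (ZMod p)) : Cst (u * D) := by
  intro x y
  rw [coeff_mul', coeff_mul']
  exact Finset.sum_congr rfl fun z _ => by rw [h (x - z) (y - z)]

/-- The Frobenius image of the rotation part of a design. -/
theorem frob_X {T : Blk S} {s mu : ℤ} (hT : Dsgn T s mu) {k : ℕ} (hk : p = 2 * k + 1) :
    ∃ D : K m (ZMod p), Cst D ∧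
      ind (ZMod p) T.X ^ p = ((s : ZMod p) ^ k) • ind (ZMod p) T.X + D := by
  set a := ind (ZMod p) T.X with ha
  set b := ind (ZMod p) T.Y with hb
  set Sb := star' b * b with hSb
  set c : K m (ZMod p) := (s : ZMod p) • 1 with hc
  set J : K m (ZMod p) := el fun _ => (mu : ZMod p) with hJ
  have hJc : Cst J := fun _ _ => rfl
  have hQ : a * a + Sb = c + J := by
    refine K.ext fun g => ?_
    have h := congrArg (Int.cast : ℤ → ZMod p) (hT.sqC g)
    rw [AddMonoidAlgebra.coeff_add, Finsupp.add_apply, ha, T.X_mul_coeff, hSb, hb, star'_ind_mul,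
      AddMonoidAlgebra.coeff_add, Finsupp.add_apply, hc, AddMonoidAlgebra.coeff_smul,
      Finsupp.smul_apply, coeff_one', hJ, el_coeff]
    simp only [Blk.sqC, Int.cast_natCast, Nat.cast_add, Int.cast_add] at h
    rw [h]
    by_cases hg : g = 0 <;> simp [hg]
  have hR : 2 * (a * b) = J := by
    refine K.ext fun g => ?_
    have h := congrArg (Int.cast : ℤ → ZMod p) (hT.sqR g)
    rw [two_mul, AddMonoidAlgebra.coeff_add, Finsupp.add_apply, ha, hb, T.X_mul_coeff, hJ, el_coeff]
    simp only [Blk.sqR, Int.cast_natCast, Nat.cast_mul] at h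
    rw [← h]
    push_cast
    ring
  have hRs : 2 * (a * star' b) = J := by
    have hJs : star' J = J := K.ext fun x => rfl
    have h := congrArg star' hR
    rw [two_mul, star'_add, star'_mul, ha, T.star_X, ← two_mul, hJs] at h
    exact h
  set M : Matrix (Fin 2) (Fin 2) (K m (ZMod p)) := !![a, Sb; 1, a] with hM
  set N : Matrix (Fin 2) (Fin 2) (K m (ZMod p)) := !![0, Sb; 1, 0] with hN
  have hM2 : ∀ i, ∃ D1 D2 : K m (ZMod p), Cst D1 ∧ Cst D2 ∧ (M ^ (2 * i + 1)) 0 0 = c ^ i * a + D1 ∧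
      b * (M ^ (2 * i + 1)) 1 0 = c ^ i * b + D2 := by
    intro i
    induction i with
    | zero => exact ⟨0, 0, Cst.zero, Cst.zero, by simp [hM], by simp [hM]⟩
    | succ i ih =>
      obtain ⟨D1, D2, h1, h2, e1, e2⟩ := ih
      rw [show 2 * (i + 1) + 1 = (2 * i + 1) + 1 + 1 by ring, pow_succ' M, pow_succ' M]
      set P := M ^ (2 * i + 1) with hP
      have hX : (M * (M * P)) 0 0 = (a * a + Sb) * P 0 0 + (2 * (a * star' b)) * (b * P 1 0) := by
        rw [Matrix.mul_apply, Fin.sum_univ_two, Matrix.mul_apply, Matrix.mul_apply, Fin.sum_univ_two,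
          Fin.sum_univ_two]
        simp [hM, hSb]
        ring
      have hY : b * (M * (M * P)) 1 0 = (2 * (a * b)) * P 0 0 + (a * a + Sb) * (b * P 1 0) := by
        rw [Matrix.mul_apply, Fin.sum_univ_two, Matrix.mul_apply, Matrix.mul_apply, Fin.sum_univ_two,
          Fin.sum_univ_two]
        simp [hM]
        ring
      rw [hX, hY, hQ, hR, hRs, e1, e2]
      refine ⟨c * D1 + J * (c ^ i * a + D1) + J * (c ^ i * b + D2),
        c * D2 + J * (c ^ i * b + D2) + J * (c ^ i * a + D1), ?_, ?_, by ring, by ring⟩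
      · exact ((h1.mul c).add (by rw [mul_comm]; exact hJc.mul _)).add (by rw [mul_comm]; exact hJc.mul _)
      · exact ((h2.mul c).add (by rw [mul_comm]; exact hJc.mul _)).add (by rw [mul_comm]; exact hJc.mul _)
  have hMN : M = a • (1 : Matrix (Fin 2) (Fin 2) (K m (ZMod p))) + N := by
    ext i j
    fin_cases i <;> fin_cases j <;> simp [hM, hN]
  have hN2 : N ^ 2 = Sb • (1 : Matrix (Fin 2) (Fin 2) (K m (ZMod p))) := by
    ext i j
    fin_cases i <;> fin_cases j <;> simp [hN, sq, Matrix.mul_apply, Fin.sum_univ_two]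
  have hMp : M ^ p = a ^ p • (1 : Matrix (Fin 2) (Fin 2) (K m (ZMod p))) + Sb ^ k • N := by
    rw [hMN, add_pow_char_of_commute _ ((Commute.one_left N).smul_left a), smul_pow, one_pow]
    congr 1
    rw [show N ^ p = N ^ (2 * k + 1) from congrArg (N ^ ·) hk]
    rw [pow_succ, pow_mul, hN2, smul_pow, one_pow, smul_mul_assoc, one_mul]
  obtain ⟨D1, -, h1, -, e1, -⟩ := hM2 k
  refine ⟨D1, h1, ?_⟩
  rw [show M ^ (2 * k + 1) = M ^ p from congrArg (M ^ ·) hk.symm, hMp] at e1
  simp [hN] at e1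
  rw [e1, hc, smul_pow, one_pow, smul_one_mul]

/-- Counting preimages under multiplication by a prime in a design. -/
theorem frob_count {T : Blk S} {s mu : ℤ} (hT : Dsgn T s mu) (hp2 : p ≠ 2)
    (hout : ∀ y, addOrderOf y = p → y ∉ T.X) {k : ℕ} (hk : p = 2 * k + 1) (x : ZMod m) :
    (((univ.filter fun y : ZMod m => (p : ZMod m) * y = x).filter fun y => y ∈ T.X).card : ZMod p) =
      (s : ZMod p) ^ k * (if x ∈ T.X then 1 else 0) := by
  obtain ⟨D, hD, he⟩ := frob_X hT hk
  have hx : ∀ z : ZMod m,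
      (((univ.filter fun y : ZMod m => (p : ZMod m) * y = z).filter fun y => y ∈ T.X).card : ZMod p) =
        (s : ZMod p) ^ k * (if z ∈ T.X then 1 else 0) + D.coeff z := by
    intro z
    have h := congrArg (fun u : K m (ZMod p) => u.coeff z) he
    simp only [coeff_pow_prime, ind_coeff, AddMonoidAlgebra.coeff_add, Finsupp.add_apply,
      AddMonoidAlgebra.coeff_smul, Finsupp.smul_apply, smul_eq_mul, Finset.sum_boole] at h
    exact h
  have h0 := hx 0
  rw [if_neg T.zero, mul_zero, zero_add, Finset.card_eq_zero.2, Nat.cast_zero] at h0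
  · rw [hx x, hD x 0, ← h0, add_zero]
  · rw [Finset.filter_eq_empty_iff]
    intro y hy hyX
    rw [Finset.mem_filter, ← nsmul_eq_mul] at hy
    rcases (Nat.dvd_prime Fact.out).1 (addOrderOf_dvd_iff_nsmul_eq_zero.2 hy.2) with h | h
    · exact T.zero (AddMonoid.addOrderOf_eq_one_iff.1 h ▸ hyX)
    · exact hout y h hyX

omit [Fact p.Prime] in
/-- The total counts of a design. -/
theorem design_totals {T : Blk S} {s mu : ℤ} (hT : Dsgn T s mu) :
    s + mu = T.X.card + T.Y.card ∧ (T.X.card : ℤ) ^ 2 + (T.Y.card : ℤ) ^ 2 = s + mu * m ∧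
      2 * (T.X.card : ℤ) * T.Y.card = mu * m := by
  refine ⟨?_, ?_, ?_⟩
  · have h := hT.sqC 0
    simp only [if_pos, Blk.sqC, cnt_zero, Nat.cast_add] at h
    exact h.symm
  · have h : ∑ g : ZMod m, (T.sqC g : ℤ) = ∑ g : ZMod m, ((if g = 0 then s else 0) + mu) :=
      Finset.sum_congr rfl fun g _ => hT.sqC g
    simp only [Finset.sum_add_distrib, Finset.sum_ite_eq', Finset.mem_univ, if_true, Finset.sum_const,
      Finset.card_univ, ZMod.card, ← Nat.cast_sum, Blk.sqC, sum_cnt_univ, nsmul_eq_mul] at h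
    push_cast at h
    linear_combination h
  · have h : ∑ g : ZMod m, (T.sqR g : ℤ) = ∑ g : ZMod m, mu :=
      Finset.sum_congr rfl fun g _ => hT.sqR g
    simp only [Finset.sum_const, Finset.card_univ, ZMod.card, ← Nat.cast_sum, Blk.sqR, ← Finset.mul_sum,
      sum_cnt_univ, nsmul_eq_mul] at h
    push_cast at h
    linear_combination h

omit [Fact p.Prime] in
theorem arith_uniform {h k s mu m d : ℤ} (e1 : s + mu = h + k) (e3 : 2 * h * k = mu * m)
    (hs : h ^ 2 = s) (hd : s = (h - k) ^ 2) (hk : 0 < k) (hh : 0 < h) (hm : 0 < m)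
    (hdm : d ∣ m) (hd3 : 3 ≤ d) (hodd : ¬ 2 ∣ d) (hdp : Prime d) : False := by
  have hk2 : k = 2 * h := by
    have : k * (k - 2 * h) = 0 := by linear_combination hd.symm.trans hs.symm
    rcases mul_eq_zero.1 this with h0 | h0 <;> omega
  subst hk2
  have e4 : h * (m * (3 - h)) = h * (4 * h) := by linear_combination -e3 - m * e1 - m * hs
  have e5 : m * (3 - h) = 4 * h := mul_left_cancel₀ hh.ne' e4
  have hh3 : h < 3 := by nlinarith
  rcases (show h = 1 ∨ h = 2 by omega) with rfl | rfl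
  · have : m = 2 := by omega
    subst this
    have := Int.le_of_dvd (by norm_num) hdm
    omega
  · have : m = 8 := by omega
    subst this
    have h8 : d ∣ (2 : ℤ) ^ 3 := by norm_num; exact hdm
    have := Int.le_of_dvd (by norm_num) (hdp.dvd_of_dvd_pow h8)
    omega

omit [Fact p.Prime] in
theorem arith_cauchy {h k s mu m r a : ℤ} (e1 : s + mu = h + k)
    (e2 : h ^ 2 + k ^ 2 = s + mu * m) (e3 : 2 * h * k = mu * m) (ha : a + h = mu) (hh : 0 < h)
    (hk : 0 < k) (hhm : h + 2 ≤ m) (hkm : k ≤ m) (hr2 : 2 ≤ r)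
    (hc : r * k ^ 2 ≤ m * (k + (r - 1) * a)) :
    (r = 2 → (h - k) ^ 2 = 1 → False) ∧ (3 ≤ r → r ≤ |h - k| → False) := by
  have hd : s = (h - k) ^ 2 := by linear_combination -e2 + e3
  have e6 : h * (m - h) + k * (m - k) = s * (m - 1) := by linear_combination -m * e1 - e2
  have hk1 : m * (r - 1) * s ≤ r * (k * (m - k)) := by
    have : k + (r - 1) * a = r * k - (r - 1) * s := by linear_combination (r - 1) * (ha + e1)
    rw [this] at hc
    nlinarith
  have e7 : r * (h * (m - h)) + r * (k * (m - k)) = r * (s * (m - 1)) := by rw [← mul_add, e6]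
  refine ⟨fun h2 hs1 => ?_, fun h2 hr => ?_⟩
  · subst h2
    nlinarith [mul_nonneg (show (0 : ℤ) ≤ h - 1 by omega) (show (0 : ℤ) ≤ m - h - 1 by omega)]
  · set δ := |h - k| with hδ
    have hs : s = δ * δ := by rw [hd, hδ, abs_mul_abs_self, sq]
    have hD : k * (m - k) - h * (m - h) ≤ δ * m := by
      calc k * (m - k) - h * (m - h) = (k - h) * (m - h - k) := by ring
        _ ≤ |(k - h) * (m - h - k)| := le_abs_self _
        _ = δ * |m - h - k| := by rw [abs_mul, abs_sub_comm]
        _ ≤ δ * m := mul_le_mul_of_nonneg_left (abs_le.2 ⟨by omega, by omega⟩) (abs_nonneg _)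
    have h9 : m * (r - 2) * s + r * s ≤ r * (δ * m) := by nlinarith
    rw [hs] at h9
    have hδ0 : 0 < δ := by omega
    have h10 : δ * (r * 1) ≤ δ * (δ * (r - 2)) := by
      refine mul_le_mul_of_nonneg_left ?_ hδ0.le
      nlinarith
    nlinarith [mul_pos hδ0 hδ0, mul_le_mul_of_nonneg_left h10 (show (0 : ℤ) ≤ m by omega)]

omit [Fact p.Prime] in
theorem cauchy_nu {q : ℕ} (hq : q.Prime) (hqm : q ∣ m) (Y : Finset (ZMod m)) {a : ℕ}
    (ha : ∀ w, addOrderOf w = q → cnt Y Y w = a) :
    q * Y.card ^ 2 ≤ m * (Y.card + (q - 1) * a) := by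
  have hWc : (Wf q : Finset (ZMod m)).card = q := card_ker_filter hqm
  have h := sq_sum_le_card_mul_sum_sq (s := (univ : Finset (ZMod m))) (f := fun z => cnt (Wf q) Y z)
  rw [sum_cnt_univ, hWc, Finset.card_univ, ZMod.card] at h
  simp only [sq (cnt (Wf q) Y _)] at h
  rw [sum_nu_mul Y hWc (fun z => cnt (Wf q) Y z) (fun z w hw => nu_shift Y hw z),
    sum_nu_const hq hqm Y ha] at h
  refine Nat.le_of_mul_le_mul_left ?_ hq.pos
  calc q * (q * Y.card ^ 2) = (q * Y.card) ^ 2 := by ring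
    _ ≤ _ := h
    _ = _ := by push_cast; ring

omit [Fact p.Prime] in
theorem no_design (hm : 1 < m) {T : Blk S} {s mu : ℤ} {v : ZMod m} (hv : v ≠ 0) (hvX : v ∉ T.X)
    (hne : T.X.Nonempty) (hout : ∀ q, q.Prime → q ≠ 2 → ∀ x, addOrderOf x = q → x ∉ T.X)
    (hout2 : (∀ q, q.Prime → q ∣ m → q = 2) → ∀ x, addOrderOf x = 2 → x ∉ T.X)
    (hT : Dsgn T s mu) : False := by
  classical
  obtain ⟨e1, e2, e3⟩ := design_totals hT
  have hh : (0 : ℤ) < T.X.card := by exact_mod_cast hne.card_pos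
  have hk : (0 : ℤ) < T.Y.card := by exact_mod_cast (T.Y_nonempty hne).card_pos
  have hhm : (T.X.card : ℤ) + 2 ≤ m := by
    have h : insert v (insert 0 T.X) ⊆ univ := Finset.subset_univ _
    have h' := Finset.card_le_card h
    rw [Finset.card_insert_of_notMem (by simp [hv, hvX]), Finset.card_insert_of_notMem T.zero,
      Finset.card_univ, ZMod.card] at h'
    omega
  have hkm : (T.Y.card : ℤ) ≤ m := by
    exact_mod_cast (Finset.card_le_univ T.Y).trans (by rw [ZMod.card])
  have hd : s = ((T.X.card : ℤ) - T.Y.card) ^ 2 := by linear_combination -e2 + e3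
  have hs0 : (T.X.card : ℤ) - T.Y.card ≠ 0 := by
    intro h0
    have e6 : (T.X.card : ℤ) * (m - T.X.card) + T.Y.card * (m - T.Y.card) = s * (m - 1) := by
      linear_combination -(m : ℤ) * e1 - e2
    rw [hd, h0] at e6
    nlinarith [mul_pos hh (show (0 : ℤ) < m - T.X.card by omega),
      mul_nonneg hk.le (show (0 : ℤ) ≤ m - T.Y.card by omega)]
  have hval : ∀ q, ∀ w, addOrderOf w = q → q.Prime →
      (∀ x ∈ T.X, x + w ∈ T.X) → (cnt T.Y T.Y w : ℤ) + T.X.card = mu := by
    intro q w hw hq hinv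
    have h := hT.sqC w
    have hw0 : w ≠ 0 := fun h0 => hq.ne_one (by rw [← hw, h0, addOrderOf_zero])
    have hX : cnt T.X T.X w = T.X.card := by rw [cnt, Finset.filter_eq_self.2 hinv]
    rw [if_neg hw0, zero_add, Blk.sqC, hX] at h
    push_cast at h
    linarith
  have hbound : ∀ q, q.Prime → q ∣ m → (∀ w, addOrderOf w = q → ∀ x ∈ T.X, x + w ∈ T.X) →
      ∃ a : ℤ, a + T.X.card = mu ∧
        (q : ℤ) * (T.Y.card : ℤ) ^ 2 ≤ m * (T.Y.card + ((q : ℤ) - 1) * a) := by
    intro q hq hqm hinv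
    obtain ⟨w₀, hw₀⟩ := exists_order (m := m) hqm
    refine ⟨cnt T.Y T.Y w₀, hval q w₀ hw₀ hq (hinv w₀ hw₀), ?_⟩
    have h := cauchy_nu hq hqm T.Y (a := cnt T.Y T.Y w₀) fun w hw => by
      have := hval q w hw hq (hinv w hw)
      have := hval q w₀ hw₀ hq (hinv w₀ hw₀)
      omega
    have h' : ((q * T.Y.card ^ 2 : ℕ) : ℤ) ≤ ((m * (T.Y.card + (q - 1) * cnt T.Y T.Y w₀) : ℕ) : ℤ) := by
      exact_mod_cast h
    push_cast [Nat.cast_sub hq.one_le] at h'
    exact h'
  by_cases hex : ∃ r, r.Prime ∧ r ≠ 2 ∧ r ∣ m ∧ ¬ ((r : ℤ) ∣ (T.X.card : ℤ) - T.Y.card)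
  · obtain ⟨r, hr, hr2, hrm, hrd⟩ := hex
    haveI := Fact.mk hr
    obtain ⟨k, hk'⟩ := hr.odd_of_ne_two hr2
    have hsk : (s : ZMod r) ^ k = 1 := by
      rw [hd]
      push_cast
      rw [← pow_mul, show 2 * k = r - 1 by omega]
      refine ZMod.pow_card_sub_one_eq_one fun h0 => hrd ((ZMod.intCast_zmod_eq_zero_iff_dvd _ r).1 ?_)
      push_cast
      exact h0
    have hXL : ∀ x ∈ T.X, ¬ r ∣ addOrderOf x := by
      intro x hx hrx
      have h := frob_count (p := r) hT hr2 (fun y hy => hout r hr hr2 y hy) hk' x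
      rw [hsk, one_mul, if_pos hx] at h
      set F := univ.filter fun y : ZMod m => (r : ZMod m) * y = x with hF
      rcases (F.filter fun y => y ∈ T.X).eq_empty_or_nonempty with he | ⟨y₀, hy₀⟩
      · rw [he, Finset.card_empty, Nat.cast_zero] at h
        exact zero_ne_one h
      · rw [Finset.mem_filter, hF, Finset.mem_filter] at hy₀
        rw [Finset.filter_eq_self.2 fun y hy => ?_, hF, card_fibre hr hrm hy₀.1.2, ZMod.natCast_self] at h
        · exact zero_ne_one h
        · rw [hF, Finset.mem_filter] at hy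
          exact (T.rat y y₀ (by rw [order_of_mul_eq hr hy.2 hrx, order_of_mul_eq hr hy₀.1.2 hrx])).2 hy₀.2
    set Lf := univ.filter fun x : ZMod m => ¬ r ∣ addOrderOf x with hLf
    have mL : ∀ {x}, x ∈ Lf ↔ x ∈ (ker (ordCompl[r] m) : AddSubgroup (ZMod m)) := fun {x} => by
      rw [mem_ker_compl hr]; simp [hLf]
    have hNshift : ∀ {v : ZMod m}, v ∈ Lf → ∀ g, cnt Lf T.Y (g + v) = cnt Lf T.Y g := fun {v} hv' g =>
      cnt_shift T.Y (fun z => by
        rw [mL, mL]
        exact (AddSubgroup.add_mem_cancel_right _ (mL.1 hv')).symm) g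
    set N := fun g => cnt Lf T.Y g with hN
    have hxor : ∀ g, 2 * ((T.X.card : ℤ) * N g) = mu * Lf.card := by
      intro g
      have h1 : ∑ l ∈ Lf, cnt T.X T.Y (l + g) = T.X.card * N g := by
        rw [hN, ← smul_eq_mul, ← Finset.sum_const]
        refine Eq.trans ?_ (Finset.sum_congr rfl fun v hv' => hNshift (mL.2 ((mem_ker_compl hr).2 (hXL v hv'))) g)
        simp only [cnt, Finset.card_filter]
        rw [Finset.sum_comm]
        exact Finset.sum_congr rfl fun v _ => Finset.sum_congr rfl fun l _ =>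
          if_congr (by rw [show l + (g + v) = v + (l + g) by abel]) rfl rfl
      have h2 : ∀ l ∈ Lf, (2 : ℤ) * (cnt T.X T.Y (l + g) : ℤ) = mu := fun l _ => by
        have := hT.sqR (l + g)
        simp only [Blk.sqR] at this
        push_cast at this
        exact this
      have h3 := Finset.sum_congr rfl h2
      rw [← Finset.mul_sum, Finset.sum_const, nsmul_eq_mul, ← Nat.cast_sum, h1] at h3
      push_cast at h3
      linear_combination h3
    have hNc : ∀ g g', N g = N g' := by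
      intro g g'
      have h := (hxor g).trans (hxor g').symm
      exact_mod_cast mul_left_cancel₀ hh.ne' (mul_left_cancel₀ (two_ne_zero) h)
    have hYY : ∀ g, ∑ l ∈ Lf, cnt T.Y T.Y (l + g) = T.Y.card * N 0 := by
      intro g
      rw [← smul_eq_mul, ← Finset.sum_const]
      refine Eq.trans ?_ (Finset.sum_congr rfl fun y _ => hNc (g + y) 0)
      simp only [hN, cnt, Finset.card_filter]
      rw [Finset.sum_comm]
      exact Finset.sum_congr rfl fun y _ => Finset.sum_congr rfl fun l _ =>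
        if_congr (by rw [show l + (g + y) = y + (l + g) by abel]) rfl rfl
    obtain ⟨g₁, hg₁⟩ := exists_order (m := m) hrm
    have hg₁L : g₁ ∉ Lf := by simp [hLf, hg₁]
    have hXX0 : ∑ l ∈ Lf, cnt T.X T.X l = T.X.card * T.X.card := by
      rw [sum_cnt, Finset.sum_const_nat]
      intro x hx
      rw [cnt]
      refine Finset.card_bij (fun l _ => l + x) (fun l hl => (Finset.mem_filter.1 hl).2)
        (fun a _ b _ h => add_right_cancel h) fun b hb => ⟨b - x, ?_, sub_add_cancel b x⟩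
      rw [Finset.mem_filter, sub_add_cancel, mL]
      exact ⟨sub_mem ((mem_ker_compl hr).2 (hXL b hb)) ((mem_ker_compl hr).2 (hXL x hx)), hb⟩
    have hXX1 : ∑ l ∈ Lf, cnt T.X T.X (l + g₁) = 0 := by
      refine Finset.sum_eq_zero fun l hl => ?_
      rw [cnt, Finset.card_eq_zero, Finset.filter_eq_empty_iff]
      intro x hx hx'
      refine hg₁L (mL.2 ?_)
      have := sub_mem ((mem_ker_compl hr).2 (hXL _ hx'))
        (add_mem ((mem_ker_compl hr).2 (hXL x hx)) (mL.1 hl))
      rwa [show x + (l + g₁) - (x + l) = g₁ by abel] at this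
    have s0 : ∑ l ∈ Lf, (T.sqC l : ℤ) = s + mu * Lf.card := by
      rw [Finset.sum_congr rfl (fun l _ => hT.sqC l), Finset.sum_add_distrib, Finset.sum_ite_eq',
        if_pos (mL.2 (zero_mem _)), Finset.sum_const, nsmul_eq_mul, mul_comm (mu)]
    have s1 : ∑ l ∈ Lf, (T.sqC (l + g₁) : ℤ) = mu * Lf.card := by
      rw [Finset.sum_congr rfl (fun l hl => (hT.sqC (l + g₁)).trans (by
        rw [if_neg, zero_add]
        intro h0
        exact hg₁L (mL.2 (by
          rw [show g₁ = -l by linear_combination h0]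
          exact neg_mem (mL.1 hl))))), Finset.sum_const, nsmul_eq_mul, mul_comm]
    have hY0 := hYY 0
    simp only [add_zero] at hY0
    rw [← Nat.cast_sum] at s0 s1
    simp only [Blk.sqC, Finset.sum_add_distrib, hXX0, hXX1, hY0, hYY g₁, Nat.cast_add, Nat.cast_mul,
      Nat.cast_zero, zero_add] at s0 s1
    refine arith_uniform (d := (r : ℤ)) e1 e3 (by linear_combination s0 - s1) hd hk hh (by omega)
      (by exact_mod_cast hrm) (by have := hr.two_le; omega) ?_ (Nat.prime_iff_prime_int.1 hr)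
    intro h
    exact hr2 ((Nat.prime_dvd_prime_iff_eq Nat.prime_two hr).1 (by exact_mod_cast h)).symm
  push Not at hex
  by_cases hodd : ∃ r, r.Prime ∧ r ≠ 2 ∧ r ∣ m
  · obtain ⟨r, hr, hr2, hrm⟩ := hodd
    haveI := Fact.mk hr
    have hrd := hex r hr hr2 hrm
    obtain ⟨k, hk'⟩ := hr.odd_of_ne_two hr2
    have hk0 : k ≠ 0 := by have := hr.two_le; omega
    have hsk : (s : ZMod r) ^ k = 0 := by
      rw [hd]
      push_cast
      rw [← Int.cast_natCast, ← Int.cast_natCast (T.Y.card), ← Int.cast_sub,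
        (ZMod.intCast_zmod_eq_zero_iff_dvd _ r).2 hrd, ← pow_mul, zero_pow (by omega)]
    have hpair : ∀ x, x ≠ 0 → ¬ r ∣ addOrderOf x → ∀ w, addOrderOf w = r →
        (x ∈ T.X ↔ x + w ∈ T.X) := by
      intro x hx hrx w hw
      have h := frob_count (p := r) hT hr2 (fun y hy => hout r hr hr2 y hy) hk' x
      rw [hsk, zero_mul] at h
      let g : ℕ → ZMod r := fun d => if ∃ y ∈ T.X, addOrderOf y = d then 1 else 0
      have hg : ∀ y, (if y ∈ T.X then (1 : ZMod r) else 0) = g (addOrderOf y) := fun y =>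
        if_congr ⟨fun h' => ⟨y, h', rfl⟩, fun ⟨y', h', he⟩ => (T.rat y' y he).1 h'⟩ rfl rfl
      have hs : ((univ.filter fun y : ZMod m => (r : ZMod m) * y = x).filter fun y => y ∈ T.X).card =
          (∑ y ∈ univ.filter (fun y : ZMod m => (r : ZMod m) * y = x), g (addOrderOf y) : ZMod r) := by
        rw [← Finset.sum_boole]
        exact Finset.sum_congr rfl fun y _ => hg y
      rw [hs, sum_fibre hr hrm hrx g, Nat.cast_sub hr.one_le, ZMod.natCast_self, Nat.cast_one, zero_sub,
        neg_one_mul, ← order_add_mul hr hw hrx, ← hg, ← hg, ← sub_eq_add_neg, sub_eq_zero] at h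
      by_cases h1 : x ∈ T.X <;> by_cases h2 : x + w ∈ T.X <;> simp [h1, h2] at h ⊢
    obtain ⟨a, ha1, ha2⟩ := hbound r hr hrm fun w hw x hx => by
      by_cases hrx : r ∣ addOrderOf x
      · rcases order_add_eq hr hw hrx with h | ⟨h, h'⟩
        · exact (T.rat _ _ h).2 hx
        · have h0 : x + w ≠ 0 := fun h0 => hout r hr hr2 x (by
            rw [← h', h0, addOrderOf_zero, mul_one]) hx
          have h3 := hpair (x + w) h0 h (-w) (by rw [addOrderOf_neg, hw])
          rw [add_neg_cancel_right] at h3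
          exact h3.2 hx
      · exact (hpair x (fun h => T.zero (h ▸ hx)) hrx w hw).1 hx
    exact (arith_cauchy e1 e2 e3 ha1 hh hk hhm hkm (by exact_mod_cast hr.two_le) ha2).2
      (by have := hr.two_le; omega) (Int.le_of_dvd (abs_pos.2 hs0) ((dvd_abs _ _).2 hrd))
  push Not at hodd
  have htwo : ∀ q, q.Prime → q ∣ m → q = 2 := fun q hq hqm => by
    by_contra h
    exact hodd q hq h hqm
  obtain ⟨e, he⟩ : ∃ e, m = 2 ^ e :=
    ⟨_, Nat.eq_prime_pow_of_unique_prime_dvd (NeZero.ne m) fun {d} hd1 hd2 => htwo d hd1 hd2⟩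
  obtain ⟨b, hb⟩ : ∃ b, e = b + 1 := ⟨e - 1, by
    rcases Nat.eq_zero_or_pos e with h | h
    · rw [h, pow_zero] at he; omega
    · omega⟩
  subst hb
  have hsp : ∀ q : ℕ, q.Prime → (q : ℤ) ∣ (T.X.card : ℤ) - T.Y.card → q = 2 := by
    intro q hq hqd
    by_contra hq2
    haveI := Fact.mk hq
    obtain ⟨k, hk'⟩ := hq.odd_of_ne_two hq2
    have hk0 : k ≠ 0 := by have := hq.two_le; omega
    have hsk : (s : ZMod q) ^ k = 0 := by
      rw [hd]
      push_cast
      rw [← Int.cast_natCast, ← Int.cast_natCast (T.Y.card), ← Int.cast_sub,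
        (ZMod.intCast_zmod_eq_zero_iff_dvd _ q).2 hqd, ← pow_mul, zero_pow (by omega)]
    obtain ⟨x, hx⟩ := hne
    have h := frob_count (p := q) hT hq2 (fun y hy => hout q hq hq2 y hy) hk' ((q : ZMod m) * x)
    rw [hsk, zero_mul] at h
    have hinj : ∀ y, (q : ZMod m) * y = q * x → y = x := fun y hy => by
      have h1 : q • (y - x) = 0 := by rw [nsmul_eq_mul, mul_sub, hy, sub_self]
      rcases (Nat.dvd_prime hq).1 (addOrderOf_dvd_iff_nsmul_eq_zero.2 h1) with h2 | h2
      · exact sub_eq_zero.1 (AddMonoid.addOrderOf_eq_one_iff.1 h2)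
      · exact absurd (htwo q hq (h2 ▸ order_dvd (y - x))) hq2
    rw [Finset.card_eq_one.2 ⟨x, Finset.eq_singleton_iff_unique_mem.2 ⟨by simp [hx], fun y hy => ?_⟩⟩,
      Nat.cast_one] at h
    · exact one_ne_zero h
    · simp only [Finset.mem_filter, Finset.mem_univ, true_and] at hy
      exact hinj y hy.1
  obtain ⟨i, hi⟩ : ∃ i, ((T.X.card : ℤ) - T.Y.card).natAbs = 2 ^ i :=
    ⟨_, Nat.eq_prime_pow_of_unique_prime_dvd (Int.natAbs_ne_zero.2 hs0) fun {d} hd1 hd2 =>
      hsp d hd1 (Int.natCast_dvd.2 hd2)⟩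
  have h2m : 2 ∣ m := he ▸ dvd_pow_self 2 (Nat.succ_ne_zero b)
  have hinvX : ∀ w, addOrderOf w = 2 → ∀ x ∈ T.X, x + w ∈ T.X := by
    intro w hw x hx
    have hx0 : x ≠ 0 := fun h => T.zero (h ▸ hx)
    have hev : ∀ z : ZMod m, z ≠ 0 → 2 ∣ addOrderOf z := fun z hz => by
      obtain ⟨q, hq, hqd⟩ := Nat.exists_prime_and_dvd fun h1 => hz (AddMonoid.addOrderOf_eq_one_iff.1 h1)
      rwa [htwo q hq (hqd.trans (order_dvd z))] at hqd
    rcases order_add_eq Nat.prime_two hw (hev x hx0) with h | ⟨h, h'⟩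
    · exact (T.rat _ _ h).2 hx
    · have h0 : x + w = 0 := by
        by_contra h0
        exact h (hev _ h0)
      rw [h0, addOrderOf_zero, mul_one] at h'
      exact absurd hx (hout2 htwo x h'.symm)
  have hsq : ((T.X.card : ℤ) - T.Y.card) ^ 2 = 4 ^ i := by
    rw [← Int.natAbs_sq, hi]
    push_cast
    rw [← pow_mul, mul_comm, pow_mul]
    norm_num
  rcases Nat.eq_zero_or_pos i with hi0 | hi0
  · obtain ⟨a, ha1, ha2⟩ := hbound 2 Nat.prime_two h2m hinvX
    exact (arith_cauchy e1 e2 e3 ha1 hh hk hhm hkm (by norm_num) (by exact_mod_cast ha2)).1 rfl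
      (by rw [hsq, hi0, pow_zero])
  · set z := ((2 ^ b : ℕ) : ZMod m) with hz
    have hzo : addOrderOf z = 2 := by
      rw [hz, ZMod.addOrderOf_coe _ (NeZero.ne m), he, Nat.gcd_eq_right (pow_dvd_pow 2 (Nat.le_succ b)),
        pow_succ, Nat.mul_div_cancel_left _ (by positivity)]
    have hY := invariant_of_norm he T.Y hi0 (by
      have h := hT.chiY
      rw [hd, hsq] at h
      push_cast at h
      exact h)
    have hz0 : z ≠ 0 := fun h => by rw [h, addOrderOf_zero] at hzo; omega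
    have hneg : -z = z := by
      have h := addOrderOf_nsmul_eq_zero z
      rw [hzo, two_nsmul] at h
      exact neg_eq_of_add_eq_zero_left h
    obtain ⟨x, hx⟩ := hne
    have hc := Sys.Inv.const_of_translate (T.adm) (d := r z) (fun h => hz0 (by
      rw [one_def, r.injEq] at h; exact h)) (by
      rintro (j | j)
      · rw [r_mul_r, pairF_r, pairF_r, ind_coeff, ind_coeff]
        refine if_congr ⟨fun h => ?_, fun h => ?_⟩ rfl rfl
        · have := hinvX z hzo _ h
          rwa [add_comm z j, add_assoc, ← two_nsmul, ← hzo, addOrderOf_nsmul_eq_zero, add_zero] at this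
        · rw [add_comm]; exact hinvX z hzo _ h
      · rw [r_mul_sr, pairF_sr, pairF_sr, ind_coeff, ind_coeff, sub_eq_add_neg, hneg]
        exact if_congr (hY j).symm rfl rfl) (r x) (r 0)
    rw [pairF_r, pairF_r, ind_coeff, ind_coeff, if_pos hx, if_neg T.zero] at hc
    exact one_ne_zero hc

end H88.Dih
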