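import Cfsg.Agent.H88.Dihedral.OneClass
import Cfsg.Agent.H88.Dihedral.NoDesign

/-!
A primitive group with a regular dihedral subgroup is 2-transitive.
-/

set_option autoImplicit false
set_option linter.style.haveILetI false
set_option linter.unusedSectionVars false

namespace H88.Dih

open DihedralGroup

theorem Sys.transitive {m : ℕ} [NeZero m] (S : Sys m) (x y : DihedralGroup m) (hx : x ≠ 1) (hy : y ≠ 1) :
    ∃ σ ∈ S.act, σ x = y := by
  by_cases hm : 1 < m
  · by_cases hsep : ∀ d e, d ∣ m → e ∣ m → d ≠ 1 → e ≠ 1 → S.Same d e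
    · exact transitive_of_oneClass hm hsep x y hx hy
    · obtain ⟨T, s, mu, v, hv, hvX, hne, h1, h2, hT⟩ := exists_design hm hsep
      exact absurd (no_design hm hv hvX hne h1 h2 hT) id
  · obtain rfl : m = 1 := by have := NeZero.pos m; omega
    have key : ∀ z : DihedralGroup 1, z ≠ 1 → z = sr 0 := by
      rintro (i | i) hz
      · exact absurd (by rw [Subsingleton.elim i 0, one_def]) hz
      · rw [Subsingleton.elim i 0]
    exact ⟨1, one_mem _, by rw [key x hx, key y hy]; rfl⟩

theorem two_transitive {G Ω : Type*} [Group G] [MulAction G Ω] [Finite Ω]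
    [MulAction.IsPreprimitive G Ω] (D : Subgroup G) {m : ℕ} (e : ↥D ≃* DihedralGroup m)
    (ht : MulAction.IsPretransitive ↥D Ω) (hst : ∀ a : Ω, MulAction.stabilizer ↥D a = ⊥) :
    MulAction.IsMultiplyPretransitive G Ω 2 := by
  rcases isEmpty_or_nonempty Ω with hΩ | ⟨⟨a⟩⟩
  · rw [MulAction.is_two_pretransitive_iff]
    intro a₁
    exact hΩ.elim a₁
  let f : DihedralGroup m →* G := D.subtype.comp e.symm.toMonoidHom
  have hb : Function.Bijective fun x => f x • a := by
    constructor
    · intro x y h
      have h1 : (e.symm y)⁻¹ * e.symm x ∈ MulAction.stabilizer ↥D a := by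
        rw [MulAction.mem_stabilizer_iff, mul_smul, inv_smul_eq_iff]
        exact h
      rw [hst a, Subgroup.mem_bot, inv_mul_eq_one] at h1
      exact (e.symm.injective h1).symm
    · intro b
      obtain ⟨d, hd⟩ := MulAction.exists_smul_eq ↥D a b
      exact ⟨e d, by simpa [f, Subgroup.smul_def] using hd⟩
  haveI : Finite (DihedralGroup m) := Finite.of_injective _ hb.1
  haveI : NeZero m := ⟨by
    rintro rfl
    exact not_finite (DihedralGroup 0)⟩
  haveI : Nontrivial Ω := by
    refine ⟨f (sr 0) • a, f 1 • a, fun h => ?_⟩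
    cases hb.1 h
  obtain ⟨S, hS⟩ := exists_sys f a hb
  exact hS fun x y hx hy => S.transitive x y hx hy

end H88.Dih
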