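import Cfsg.Agent.H88.Dihedral.Blk

/-!
When no invariant set with rational rotation part separates orders, the stabiliser is transitive
off the identity.
-/

set_option autoImplicit false
set_option linter.style.haveILetI false
set_option linter.unusedSectionVars false

namespace H88.Dih

open DihedralGroup Finset

variable {m : ℕ} [NeZero m] {S : Sys m}

/-- Being in the same orbit. -/
def Sys.Rel (S : Sys m) (x y : DihedralGroup m) : Prop := ∃ σ ∈ S.act, σ x = y

theorem Sys.Rel.refl (x : DihedralGroup m) : S.Rel x x := ⟨1, one_mem _, rfl⟩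

theorem Sys.Rel.symm {x y : DihedralGroup m} (h : S.Rel x y) : S.Rel y x := by
  obtain ⟨σ, hσ, rfl⟩ := h
  exact ⟨σ⁻¹, inv_mem hσ, by simp⟩

theorem Sys.Rel.trans {x y z : DihedralGroup m} (h : S.Rel x y) (h' : S.Rel y z) : S.Rel x z := by
  obtain ⟨σ, hσ, rfl⟩ := h
  obtain ⟨τ, hτ, rfl⟩ := h'
  exact ⟨τ * σ, mul_mem hτ hσ, rfl⟩

theorem Sys.rel_inv (x : DihedralGroup m) : S.Inv (S.Rel x) := Sys.inv_orbit x

theorem Sys.rel_ne_one {x y : DihedralGroup m} (hx : x ≠ 1) (h : S.Rel x y) : y ≠ 1 := by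
  rintro rfl
  obtain ⟨σ, hσ, h⟩ := h
  exact hx (σ.injective (h.trans (S.fix σ hσ).symm))

/-- Rotation part of an orbit. -/
noncomputable def orbX (S : Sys m) (x : DihedralGroup m) : Finset (ZMod m) := by
  classical exact univ.filter fun i => S.Rel x (r i)

/-- Reflection part of an orbit. -/
noncomputable def orbY (S : Sys m) (x : DihedralGroup m) : Finset (ZMod m) := by
  classical exact univ.filter fun i => S.Rel x (sr i)

theorem mem_orbX {x : DihedralGroup m} {i : ZMod m} : i ∈ orbX S x ↔ S.Rel x (r i) := by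
  classical simp [orbX]

theorem mem_orbY {x : DihedralGroup m} {i : ZMod m} : i ∈ orbY S x ↔ S.Rel x (sr i) := by
  classical simp [orbY]

theorem orb_congr {x y : DihedralGroup m} (h : S.Rel x y) :
    orbX S x = orbX S y ∧ orbY S x = orbY S y := by
  constructor <;> ext i
  · rw [mem_orbX, mem_orbX]; exact ⟨h.symm.trans, h.trans⟩
  · rw [mem_orbY, mem_orbY]; exact ⟨h.symm.trans, h.trans⟩

theorem zero_notMem_orbX {x : DihedralGroup m} (hx : x ≠ 1) : (0 : ZMod m) ∉ orbX S x := fun h =>
  Sys.rel_ne_one hx (mem_orbX.1 h) one_def.symm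

theorem orb_adm (x : DihedralGroup m) (R : Type*) [CommRing R] :
    S.Adm (ind R (orbX S x)) (ind R (orbY S x)) := by
  classical
  convert Sys.adm_of_inv ((S.rel_inv x).comp fun t => if t then (1 : R) else 0) using 1 <;>
    refine K.ext fun i => ?_ <;> simp [mem_orbX, mem_orbY]

theorem eq_of_mem_ind {R : Type*} [CommRing R] [Nontrivial R] {A : Finset (ZMod m)} {i : ZMod m} :
    (ind R A).coeff i = 1 ↔ i ∈ A := by
  by_cases h : i ∈ A <;> simp [h]

/-- The image of an orbit under a multiplier. -/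
theorem exists_mult (hm : 1 < m) {x : DihedralGroup m} (hx : x ≠ 1) (u : (ZMod m)ˣ) :
    ∃ Y : Finset (ZMod m), Y.card = (orbY S x).card ∧
      S.Adm (ind ℤ ((orbX S x).image fun i => (u : ZMod m) * i)) (ind ℤ Y) := by
  classical
  obtain ⟨p, hp, hB, hpu⟩ := exists_prime_eq u (max 2 m)
  simp only [max_lt_iff] at hB
  haveI := Fact.mk hp
  obtain ⟨k, hk⟩ := hp.odd_of_ne_two (by omega)
  set X := orbX S x
  set Y0 := orbY S x
  set b := ind (ZMod p) Y0
  have h := (orb_adm (S := S) x (ZMod p)).frobenius hk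
  set X' := X.image fun i => (u : ZMod m) * i with hX'
  have hap : ind (ZMod p) X ^ p = ind (ZMod p) X' := by
    refine K.ext fun z => ?_
    obtain ⟨y, rfl⟩ : ∃ y, (u : ZMod m) * y = z := ⟨↑u⁻¹ * z, Units.mul_inv_cancel_left u z⟩
    rw [coeff_pow_prime, Finset.sum_eq_single y]
    · simp [hX']
    · intro w hw hwy
      rw [Finset.mem_filter, hpu] at hw
      exact absurd ((Units.mul_right_inj u).1 hw.2) hwy
    · intro hy
      simp [hpu] at hy
  rw [hap] at h
  set f := ind (ZMod p) Y0 * (star' (ind (ZMod p) Y0) * ind (ZMod p) Y0) ^ k with hf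
  have h01 : ∀ i, f.coeff i = 0 ∨ f.coeff i = 1 := by
    intro i
    by_contra hh
    refine S.refl_part hm (p := fun z => ¬ (pairF (ind (ZMod p) X') f z = 0 ∨
      pairF (ind (ZMod p) X') f z = 1)) (h.comp fun v => ¬ (v = 0 ∨ v = 1)) (fun j hj => hj ?_) (sr i) hh
    by_cases hjx : j ∈ X' <;> simp [hjx]
  refine ⟨univ.filter fun i => f.coeff i = 1, ?_, ?_⟩
  · have haug : ∀ a b : K m (ZMod p), ∑ i, (a * b).coeff i = (∑ i, a.coeff i) * ∑ i, b.coeff i := by
      intro a b
      simp only [coeff_mul']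
      rw [Finset.sum_comm, Finset.sum_mul]
      refine Finset.sum_congr rfl fun y _ => ?_
      rw [← Finset.mul_sum]
      congr 1
      exact Equiv.sum_comp (Equiv.subRight y) fun i => b.coeff i
    have hone : ∑ i, (1 : K m (ZMod p)).coeff i = 1 := by simp [coeff_one']
    have hpow : ∀ (a : K m (ZMod p)) n, ∑ i, (a ^ n).coeff i = (∑ i, a.coeff i) ^ n := by
      intro a n
      induction n with
      | zero => simpa using hone
      | succ n ih => rw [pow_succ, haug, ih, pow_succ]
    have hsum : ∑ i, f.coeff i = (Y0.card : ZMod p) := by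
      have hb : ∑ i, (ind (ZMod p) Y0).coeff i = (Y0.card : ZMod p) := by simp
      have hsb : ∑ i, (star' (ind (ZMod p) Y0)).coeff i = (Y0.card : ZMod p) := by
        simp only [star'_coeff]
        rw [← hb]
        exact Equiv.sum_comp (Equiv.neg (ZMod m)) fun i => (ind (ZMod p) Y0).coeff i
      rw [hf, haug, hpow, haug, hb, hsb, ← sq, ← pow_mul, ← pow_succ',
        show ((Y0.card : ZMod p)) ^ (2 * k + 1) = (Y0.card : ZMod p) ^ p from congrArg _ hk.symm,
        ZMod.pow_card]
    have hsum2 : ∑ i, f.coeff i = ((univ.filter fun i => f.coeff i = 1).card : ZMod p) := by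
      rw [← Finset.sum_boole]
      refine Finset.sum_congr rfl fun i _ => ?_
      rcases h01 i with h0 | h0 <;> simp [h0]
    have hb1 : (univ.filter fun i => f.coeff i = 1).card < p :=
      lt_of_le_of_lt ((Finset.card_le_univ _).trans (by rw [ZMod.card])) hB.2
    have hb2 : Y0.card < p := lt_of_le_of_lt ((Finset.card_le_univ _).trans (by rw [ZMod.card])) hB.2
    have := congrArg ZMod.val (hsum2.symm.trans hsum)
    rwa [ZMod.val_natCast_of_lt hb1, ZMod.val_natCast_of_lt hb2] at this
  · convert Sys.adm_of_inv (h.comp fun v => if v = 1 then (1 : ℤ) else 0) using 1 <;>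
      refine K.ext fun i => ?_
    · simp [eq_of_mem_ind]
    · by_cases h0 : f.coeff i = 1 <;> simp [h0]

/-- If no rotation-rational invariant set separates orders, there is a single orbit. -/
theorem transitive_of_oneClass (hm : 1 < m)
    (hone : ∀ d e, d ∣ m → e ∣ m → d ≠ 1 → e ≠ 1 → S.Same d e) (x y : DihedralGroup m) (hx : x ≠ 1)
    (hy : y ≠ 1) : ∃ σ ∈ S.act, σ x = y := by
  classical
  have hmeet : ∀ z : DihedralGroup m, z ≠ 1 → ∃ i, i ≠ 0 ∧ S.Rel z (r i) := by
    intro z hz
    by_contra hh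
    push Not at hh
    rcases z with i | i
    · exact hh i (fun h => hz (by rw [h, one_def])) (Sys.Rel.refl _)
    · exact S.refl_part hm (S.rel_inv (sr i))
        (fun j hj => hh j (fun h => Sys.rel_ne_one hz hj (by rw [h, one_def])) hj) (sr i) (Sys.Rel.refl _)
  have h1m : (1 : ZMod m) ≠ 0 := by
    haveI : Fact (1 < m) := ⟨hm⟩
    exact one_ne_zero
  set x₀ : DihedralGroup m := r 1 with hx₀
  have hx₀1 : x₀ ≠ 1 := fun h => h1m (by rwa [hx₀, one_def, r.injEq] at h)
  -- every orbit is a multiplier image of the orbit of `x₀`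
  have horb : ∀ (u : (ZMod m)ˣ) i, i ∈ orbX S x₀ →
      (orbX S (r ((u : ZMod m) * i))).card = (orbX S x₀).card ∧
        (orbY S (r ((u : ZMod m) * i))).card = (orbY S x₀).card := by
    intro u i hi
    set z : DihedralGroup m := r ((u : ZMod m) * i) with hz
    have hz1 : z ≠ 1 := fun h => zero_notMem_orbX (S := S) hx₀1 (by
      rw [hz, one_def, r.injEq] at h
      rwa [(Units.mul_right_eq_zero u).1 h] at hi)
    have hsub : ∀ (v : (ZMod m)ˣ) (a b : DihedralGroup m) j, a ≠ 1 → j ∈ orbX S a →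
        b = r ((v : ZMod m) * j) →
        orbX S b ⊆ (orbX S a).image fun t => (v : ZMod m) * t := by
      intro v a b j ha hj hb t ht
      obtain ⟨Y, -, hY⟩ := exists_mult (S := S) hm ha v
      obtain ⟨σ, hσ, hσb⟩ := mem_orbX.1 ht
      have h := hY σ hσ b
      rw [hσb, hb, pairF_r, pairF_r, (eq_of_mem_ind (R := ℤ)).2 (Finset.mem_image_of_mem _ hj)] at h
      exact eq_of_mem_ind.1 h
    have h1 := hsub u x₀ z i hx₀1 hi rfl
    have hzi : (u : ZMod m) * i ∈ orbX S z := mem_orbX.2 (Sys.Rel.refl _)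
    have h2 := hsub u⁻¹ z (r i) ((u : ZMod m) * i) hz1 hzi (by rw [Units.inv_mul_cancel_left])
    rw [← (orb_congr (mem_orbX.1 hi)).1] at h2
    have hX : orbX S z = (orbX S x₀).image fun t => (u : ZMod m) * t := by
      refine Finset.Subset.antisymm h1 fun t ht => ?_
      obtain ⟨t, ht', rfl⟩ := Finset.mem_image.1 ht
      obtain ⟨w, hw, he⟩ := Finset.mem_image.1 (h2 ht')
      rwa [← he, Units.mul_inv_cancel_left]
    obtain ⟨Y, hYc, hY⟩ := exists_mult (S := S) hm hx₀1 u
    have hYeq : orbY S z = Y := by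
      ext j
      have := Sys.eq_of_eq_r hm (orb_adm (S := S) z ℤ) hY (fun t _ => by
        simp only [pairF_r, hX]) j
      rw [pairF_sr, pairF_sr] at this
      rw [← eq_of_mem_ind (R := ℤ), this, eq_of_mem_ind]
    refine ⟨?_, by rw [hYeq, hYc]⟩
    rw [hX, Finset.card_image_of_injective _ fun a b h => (Units.mul_right_inj u).1 h]
  have hcover : ∀ i : ZMod m, i ≠ 0 →
      ∃ (u : (ZMod m)ˣ) (j : ZMod m), j ∈ orbX S x₀ ∧ (u : ZMod m) * j = i := by
    intro i hi
    choose Y hY using fun u => exists_mult (S := S) hm hx₀1 u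
    have hgood : S.Good fun d => ∃ (u : (ZMod m)ˣ) (j : ZMod m),
        j ∈ orbX S x₀ ∧ addOrderOf ((u : ZMod m) * j) = d := by
      refine ⟨fun z => ∃ u : (ZMod m)ˣ, pairF (ind ℤ ((orbX S x₀).image fun t => (u : ZMod m) * t))
        (ind ℤ (Y u)) z = 1, fun σ hσ z => ?_, fun t _ => ?_⟩
      · exact propext (exists_congr fun u => by rw [(hY u).2 σ hσ z])
      · simp only [pairF_r, eq_of_mem_ind, Finset.mem_image]
        constructor
        · rintro ⟨u, j, hj, rfl⟩; exact ⟨u, j, hj, rfl⟩
        · rintro ⟨u, j, hj, he⟩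
          obtain ⟨v, hv⟩ := exists_unit_mul he
          exact ⟨v * u, j, hj, by rw [Units.val_mul, mul_assoc, hv]⟩
    have hx₀i : (1 : ZMod m) ∈ orbX S x₀ := mem_orbX.2 (Sys.Rel.refl _)
    obtain ⟨u, j, hj, he⟩ := (hone (addOrderOf (1 : ZMod m)) (addOrderOf i) (order_dvd _) (order_dvd _)
      (fun h => h1m (AddMonoid.addOrderOf_eq_one_iff.1 h))
      (fun h => hi (AddMonoid.addOrderOf_eq_one_iff.1 h)) _ hgood).1
        ⟨1, 1, hx₀i, by rw [Units.val_one, one_mul]⟩
    obtain ⟨v, hv⟩ := exists_unit_mul he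
    exact ⟨v * u, j, hj, by rw [Units.val_mul, mul_assoc, hv]⟩
  have hall : ∀ z : DihedralGroup m, z ≠ 1 → (orbX S z).card = (orbX S x₀).card ∧
      (orbY S z).card = (orbY S x₀).card := by
    intro z hz
    obtain ⟨i, hi, hzi⟩ := hmeet z hz
    rw [(orb_congr hzi).1, (orb_congr hzi).2]
    obtain ⟨u, j, hj, rfl⟩ := hcover i hi
    exact horb u j hj
  -- double count
  have hcount : (m - 1) * (orbY S x₀).card = m * (orbX S x₀).card := by
    have e1 : ∑ i ∈ univ.erase (0 : ZMod m), (orbY S (r i)).card =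
        ∑ j : ZMod m, (orbX S (sr j)).card := by
      have a1 : ∀ i : ZMod m, (orbY S (r i)).card = ∑ j, if S.Rel (r i) (sr j) then 1 else 0 := fun i => by
        rw [← Finset.card_filter]; congr 1
      have a2 : ∀ j : ZMod m, (orbX S (sr j)).card =
          ∑ i ∈ univ.erase (0 : ZMod m), if S.Rel (r i) (sr j) then 1 else 0 := fun j => by
        rw [← Finset.card_filter]; congr 1; ext i
        simp only [mem_orbX, Finset.mem_filter, Finset.mem_erase, Finset.mem_univ, and_true]
        exact ⟨fun h => ⟨fun h0 => Sys.rel_ne_one (fun h1 => by cases h1) h (by rw [h0, one_def]), h.symm⟩,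
          fun h => h.2.symm⟩
      simp only [a1, a2]
      exact Finset.sum_comm
    rw [Finset.sum_congr rfl (g := fun _ => (orbY S x₀).card)
        (fun i hi => (hall (r i) fun h => (Finset.mem_erase.1 hi).1 (by rw [one_def, r.injEq] at h; exact h)).2),
      Finset.sum_congr rfl (g := fun _ => (orbX S x₀).card)
        (fun j _ => (hall (sr j) fun h => by cases h).1),
      Finset.sum_const, Finset.sum_const, Finset.card_erase_of_mem (Finset.mem_univ _),
      Finset.card_univ, ZMod.card, smul_eq_mul, smul_eq_mul] at e1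
    exact e1
  have hYfull : orbY S x₀ = univ := by
    refine Finset.eq_univ_of_card _ (le_antisymm (Finset.card_le_univ _) ?_)
    rw [ZMod.card]
    refine Nat.le_of_dvd (Nat.pos_of_ne_zero fun h0 => ?_) ?_
    · rw [h0, mul_zero] at hcount
      have h2 : 0 < (orbX S x₀).card := Finset.card_pos.2 ⟨1, mem_orbX.2 (Sys.Rel.refl _)⟩
      rcases Nat.mul_eq_zero.1 hcount.symm with h | h <;> omega
    · have hco : m.Coprime (m - 1) :=
        (Nat.coprime_self_sub_right (by omega)).2 (Nat.coprime_one_right m)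
      exact hco.dvd_of_dvd_mul_left ⟨_, hcount⟩
  have hbase : ∀ z : DihedralGroup m, z ≠ 1 → S.Rel x₀ z := by
    intro z hz
    rcases z with i | i
    · have hj : sr (0 : ZMod m) ≠ 1 := fun h => by cases h
      have h1 : S.Rel x₀ (sr 0) := mem_orbY.1 (hYfull ▸ Finset.mem_univ 0)
      have h2 : (orbY S (r i)).card = m := by
        rw [(hall (r i) hz).2, hYfull, Finset.card_univ, ZMod.card]
      have h3 : orbY S (r i) = univ := Finset.eq_univ_of_card _ (by rw [h2, ZMod.card])
      exact h1.trans (mem_orbY.1 (h3 ▸ Finset.mem_univ 0) : S.Rel (r i) (sr 0)).symm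
    · exact mem_orbY.1 (hYfull ▸ Finset.mem_univ i)
  exact (hbase x hx).symm.trans (hbase y hy)

end H88.Dih
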