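import Cfsg.Agent.H88.Dihedral.Alg

/-!
Rational elements, their closure under the twisted product, and the classes of orders cut out by
invariant sets with rational rotation part.
-/

set_option autoImplicit false
set_option linter.style.haveILetI false
set_option linter.unusedSectionVars false

namespace H88.Dih

open DihedralGroup

variable {m : ℕ} [NeZero m] {R : Type*} [CommRing R]

theorem addOrderOf_unit_mul (u : (ZMod m)ˣ) (x : ZMod m) :
    addOrderOf ((u : ZMod m) * x) = addOrderOf x :=
  addOrderOf_injective (AddMonoidHom.mulLeft (u : ZMod m))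
    (fun a b h => (Units.mul_right_inj u).1 h) x

theorem exists_unit_mul {x y : ZMod m} (h : addOrderOf x = addOrderOf y) :
    ∃ u : (ZMod m)ˣ, (u : ZMod m) * x = y := by
  classical
  set d := addOrderOf x with hd
  have hdm : d ∣ m := by simpa [hd] using addOrderOf_dvd_natCard (x := x)
  have hdpos : 0 < d := addOrderOf_pos x
  have hle : AddSubgroup.zmultiples x = AddSubgroup.zmultiples y := by
    have hc : ∀ z : ZMod m, addOrderOf z = d → ((AddSubgroup.zmultiples z : Set (ZMod m)).toFinset
        = Finset.univ.filter fun w : ZMod m => d • w = 0) := by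
      intro z hz
      refine Finset.eq_of_subset_of_card_le (fun w hw => ?_) ?_
      · rw [Set.mem_toFinset, SetLike.mem_coe, AddSubgroup.mem_zmultiples_iff] at hw
        obtain ⟨k, rfl⟩ := hw
        rw [Finset.mem_filter, smul_comm d k z]
        exact ⟨Finset.mem_univ _, by rw [← hz, addOrderOf_nsmul_eq_zero, smul_zero]⟩
      · refine (IsAddCyclic.card_nsmul_eq_zero_le hdpos).trans ?_
        rw [Set.toFinset_card, ← Nat.card_eq_fintype_card]
        exact le_of_eq (by rw [← hz, ← Nat.card_zmultiples]; rfl)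
    apply SetLike.coe_injective
    rw [← Set.toFinset_inj, hc x rfl, hc y h.symm]
  obtain ⟨k, hk⟩ := AddSubgroup.mem_zmultiples_iff.1 (hle ▸ AddSubgroup.mem_zmultiples y : y ∈
    AddSubgroup.zmultiples x)
  set k' : ℕ := (k % d).toNat with hk'
  have hy : k' • x = y := by
    rw [← hk, ← natCast_zsmul, hk', Int.toNat_of_nonneg (Int.emod_nonneg _ (by omega)),
      hd, mod_addOrderOf_zsmul]
  have hco : Nat.Coprime k' d := by
    have h2 : addOrderOf (k' • x) = d / Nat.gcd d k' := by rw [addOrderOf_nsmul, hd]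
    rw [hy, ← h] at h2
    rw [Nat.coprime_comm, Nat.Coprime]
    exact (Nat.div_eq_self.1 h2.symm).resolve_left (by omega)
  obtain ⟨u, hu⟩ := ZMod.unitsMap_surjective hdm (ZMod.unitOfCoprime k' hco)
  refine ⟨u, ?_⟩
  have h3 : ((u : ZMod m).val : ZMod d) = (k' : ZMod d) := by
    have h4 := congrArg (fun v : (ZMod d)ˣ => (v : ZMod d)) hu
    simp only [ZMod.unitsMap_def, Units.coe_map, MonoidHom.coe_coe, ZMod.castHom_apply,
      ZMod.coe_unitOfCoprime] at h4
    rw [← h4, ZMod.natCast_val]
  rw [← hy]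
  conv_lhs => rw [← ZMod.natCast_zmod_val (u : ZMod m), ← nsmul_eq_mul]
  exact (nsmul_eq_nsmul_iff_modEq.2 ((ZMod.natCast_eq_natCast_iff _ _ _).1 h3))

/-- Rational elements: the coefficients depend only on the order. -/
def IsRat (a : K m R) : Prop := ∀ x y, addOrderOf x = addOrderOf y → a.coeff x = a.coeff y

theorem isRat_iff {a : K m R} :
    IsRat a ↔ ∀ (u : (ZMod m)ˣ) x, a.coeff ((u : ZMod m) * x) = a.coeff x :=
  ⟨fun h u x => h _ _ (addOrderOf_unit_mul u x), fun h x y he => by
    obtain ⟨u, rfl⟩ := exists_unit_mul he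
    exact (h u x).symm⟩

theorem IsRat.add {a b : K m R} (ha : IsRat a) (hb : IsRat b) : IsRat (a + b) :=
  fun x y h => by simp [ha x y h, hb x y h]

theorem IsRat.sub {a b : K m R} (ha : IsRat a) (hb : IsRat b) : IsRat (a - b) :=
  fun x y h => by simp [ha x y h, hb x y h]

theorem IsRat.mul {a b : K m R} (ha : IsRat a) (hb : IsRat b) : IsRat (a * b) := by
  rw [isRat_iff] at *
  intro u x
  rw [coeff_mul', coeff_mul']
  refine (Fintype.sum_equiv (Units.mulLeft u) _ _ fun y => ?_).symm
  rw [Units.mulLeft_apply, ha, ← mul_sub, hb]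

theorem isRat_one : IsRat (1 : K m R) := fun x y h => by
  rw [coeff_one', coeff_one']
  exact if_congr (by rw [← AddMonoid.addOrderOf_eq_one_iff, h, AddMonoid.addOrderOf_eq_one_iff]) rfl rfl

theorem star'_mul (u v : K m R) : star' (u * v) = star' u * star' v := by
  refine K.ext fun x => ?_
  rw [star'_coeff, coeff_mul', coeff_mul']
  exact Fintype.sum_equiv (Equiv.neg _) _ _ fun y => by simp [sub_eq_add_neg, add_comm]

theorem star'_star' (u : K m R) : star' (star' u) = u := K.ext fun x => by simp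

theorem star'_add (u v : K m R) : star' (u + v) = star' u + star' v := K.ext fun x => by simp

/-- A large prime in a given residue class. -/
theorem exists_prime_eq (u : (ZMod m)ˣ) (B : ℕ) :
    ∃ p : ℕ, p.Prime ∧ B < p ∧ (p : ZMod m) = u := by
  obtain ⟨p, hB, hp, he⟩ := Nat.forall_exists_prime_gt_and_eq_mod u.isUnit B
  exact ⟨p, hp, hB, he⟩

namespace Sys

variable {S : Sys m}

/-- The square of the reflection half of a pair with rational rotation half is rational. -/
theorem Adm.sq_isRat (hm : 1 < m) {a b : K m ℤ} (h : S.Adm a b) (ha : IsRat a) :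
    IsRat (star' b * b) := by
  rw [isRat_iff]
  intro u x
  set Sb := star' b * b with hSb
  obtain ⟨p, hp, hB, hpu⟩ := exists_prime_eq u
    (max 2 (max (2 * (Sb.coeff ((u : ZMod m) * x)).natAbs) (2 * (Sb.coeff x).natAbs)))
  haveI := Fact.mk hp
  simp only [max_lt_iff] at hB
  obtain ⟨k, hk⟩ := hp.odd_of_ne_two (by omega)
  have h1 := h.map (Int.castRingHom (ZMod p))
  have hcoef : ∀ (w : K m (ZMod p)) (y : ZMod m),
      (w ^ p).coeff ((u : ZMod m) * y) = w.coeff y := by
    intro w y
    rw [coeff_pow_prime, Finset.sum_eq_single y]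
    · intro z hz hzy
      rw [Finset.mem_filter, hpu] at hz
      exact absurd ((Units.mul_right_inj u).1 hz.2) hzy
    · intro hy
      simp [hpu] at hy
  have hap : red (Int.castRingHom (ZMod p)) a ^ p = red (Int.castRingHom (ZMod p)) a := by
    refine K.ext fun z => ?_
    obtain ⟨y, rfl⟩ : ∃ y, (u : ZMod m) * y = z := ⟨↑u⁻¹ * z, Units.mul_inv_cancel_left u z⟩
    rw [hcoef, red_coeff, red_coeff, isRat_iff.1 ha u y]
  have h2 := h1.frobenius hk
  rw [hap] at h2
  set bb := red (Int.castRingHom (ZMod p)) b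
  have hb : bb * (star' bb * bb) ^ k = bb :=
    K.ext fun i => eq_of_eq_r hm h2 h1 (fun j _ => rfl) i
  have hS : (star' bb * bb) ^ p = star' bb * bb := by
    calc (star' bb * bb) ^ p = (star' bb * bb) ^ (2 * k + 1) := congrArg _ hk
      _ = star' bb * (bb * (star' bb * bb) ^ k * (star' bb * bb) ^ k) := by ring
      _ = star' bb * bb := by rw [hb, hb]
  have h3 := hcoef (star' bb * bb) x
  rw [hS, show star' bb * bb = red (Int.castRingHom (ZMod p)) Sb by rw [hSb, red_mul, red_star],
    red_coeff, red_coeff] at h3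
  simp only [eq_intCast] at h3
  refine sub_eq_zero.1 (Int.eq_zero_of_abs_lt_dvd
    ((ZMod.intCast_zmod_eq_zero_iff_dvd _ p).1 (by rw [Int.cast_sub, h3, sub_self])) ?_)
  rw [abs_lt]
  omega

/-- The twisted product of pairs with rational rotation halves has rational rotation half. -/
theorem Adm.mul_isRat (hm : 1 < m) {a b a' b' : K m ℤ} (h : S.Adm a b) (ha : IsRat a)
    (h' : S.Adm a' b') (ha' : IsRat a') : IsRat (a * a' + star' b * b') := by
  have h1 := (h.add h').sq_isRat hm (ha.add ha')
  have h2 := h.sq_isRat hm ha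
  have h3 := h'.sq_isRat hm ha'
  have h4 : star' (star' b * b') = star' b * b' := by
    have h5 := (h.mul h').star_eq
    rw [star'_add, star'_mul a, h.star_eq, h'.star_eq] at h5
    exact add_left_cancel h5
  rw [star'_mul, star'_star', mul_comm] at h4
  intro x y hxy
  have e1 := (ha.mul ha') x y hxy
  have e2 := h1 x y hxy
  have e3 := h2 x y hxy
  have e4 := h3 x y hxy
  have expand : star' (b + b') * (b + b') =
      star' b * b + star' b' * b' + (star' b * b' + star' b * b') := by
    rw [star'_add]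
    conv_rhs => enter [2, 2]; rw [← h4]
    ring
  rw [expand] at e2
  simp only [AddMonoidAlgebra.coeff_add, Finsupp.add_apply] at e2 ⊢
  omega

/-- Sets of orders cut out by invariant sets. -/
def Good (S : Sys m) (P : ℕ → Prop) : Prop :=
  ∃ T : DihedralGroup m → Prop, S.Inv T ∧ ∀ i, i ≠ 0 → (T (r i) ↔ P (addOrderOf i))

/-- Two orders no invariant set with rational rotation part separates. -/
def Same (S : Sys m) (d e : ℕ) : Prop := ∀ P, S.Good P → (P d ↔ P e)

theorem Same.refl (d : ℕ) : S.Same d d := fun _ _ => Iff.rfl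

theorem Same.symm {d e : ℕ} (h : S.Same d e) : S.Same e d := fun P hP => (h P hP).symm

theorem Same.trans {d e f : ℕ} (h : S.Same d e) (h' : S.Same e f) : S.Same d f :=
  fun P hP => (h P hP).trans (h' P hP)

theorem Good.not {P : ℕ → Prop} (h : S.Good P) : S.Good fun d => ¬ P d := by
  obtain ⟨T, hT, hP⟩ := h
  exact ⟨fun z => ¬ T z, hT.comp Not, fun i hi => not_congr (hP i hi)⟩

theorem good_same (u : ℕ) : S.Good (S.Same u) := by
  classical
  refine ⟨fun z => ∀ (P : ℕ → Prop) (T : DihedralGroup m → Prop), S.Inv T →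
    (∀ i, i ≠ 0 → (T (r i) ↔ P (addOrderOf i))) → P u → T z, ?_, fun i hi => ?_⟩
  · intro σ hσ z
    refine propext ⟨fun h P T hT hP hu => (hT σ hσ z) ▸ h P T hT hP hu,
      fun h P T hT hP hu => (hT σ hσ z).symm ▸ h P T hT hP hu⟩
  · constructor
    · intro h P hP
      refine ⟨fun hu => ?_, fun hd => ?_⟩
      · obtain ⟨T, hT, hT'⟩ := hP
        exact (hT' i hi).1 (h P T hT hT' hu)
      · by_contra hu
        obtain ⟨T, hT, hT'⟩ := hP.not
        exact (hT' i hi).1 (h (fun d => ¬ P d) T hT hT' hu) hd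
    · intro h P T hT hT' hu
      exact (hT' i hi).2 ((h P ⟨T, hT, hT'⟩).1 hu)

/-- An invariant function with rational rotation part is constant on classes. -/
theorem eq_of_same {α : Type*} {F : DihedralGroup m → α} (hF : S.Inv F)
    (hrat : ∀ x y : ZMod m, addOrderOf x = addOrderOf y → F (r x) = F (r y))
    {x y : ZMod m} (h : S.Same (addOrderOf x) (addOrderOf y)) : F (r x) = F (r y) := by
  refine ((h (fun d => ∀ z : ZMod m, addOrderOf z = d → F (r z) = F (r x))
    ⟨fun z => F z = F (r x), hF.comp fun v => v = F (r x), fun i _ => ?_⟩).1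
      (fun z hz => hrat z x hz) y rfl).symm
  exact ⟨fun he z hz => (hrat z i hz).trans he, fun he => he i rfl⟩

/-- An invariant function constant on the rotation part of an invariant set is constant on it. -/
theorem const_on_refl {α : Type*} (hm : 1 < m) {F : DihedralGroup m → α} (hF : S.Inv F)
    {T : DihedralGroup m → Prop} (hT : S.Inv T) {c : α}
    (h : ∀ i, i ≠ 0 → T (r i) → F (r i) = c) {j : ZMod m} (hj : T (sr j)) : F (sr j) = c := by
  by_contra hne
  have key := eq_of_eq_r hm (hT.comp₂ hF fun t v => t ∧ v ≠ c) (inv_const False) (fun i hi => ?_) j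
  · exact key ▸ (⟨hj, hne⟩ : T (sr j) ∧ F (sr j) ≠ c)
  · exact propext ⟨fun h1 => h1.2 (h i hi h1.1), False.elim⟩

end Sys

section Count

theorem card_order_eq {d : ℕ} (hd : d ∣ m) :
    (Finset.univ.filter fun x : ZMod m => addOrderOf x = d).card = d.totient :=
  IsAddCyclic.card_addOrderOf_eq_totient (by rwa [ZMod.card])

theorem order_dvd (x : ZMod m) : addOrderOf x ∣ m := by
  simpa using addOrderOf_dvd_natCard (x := x)

theorem exists_order {d : ℕ} (hd : d ∣ m) : ∃ x : ZMod m, addOrderOf x = d := by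
  have : 0 < (Finset.univ.filter fun x : ZMod m => addOrderOf x = d).card := by
    rw [card_order_eq hd]; exact Nat.totient_pos.2 (Nat.pos_of_dvd_of_pos hd (NeZero.pos m))
  obtain ⟨x, hx⟩ := Finset.card_pos.1 this
  exact ⟨x, (Finset.mem_filter.1 hx).2⟩

variable {q : ℕ}

theorem order_of_mul_eq (hq : q.Prime) {x y : ZMod m} (h : (q : ZMod m) * y = x)
    (hqx : q ∣ addOrderOf x) : addOrderOf y = q * addOrderOf x := by
  have h1 : addOrderOf x = addOrderOf y / (addOrderOf y).gcd q := by
    rw [← h, ← nsmul_eq_mul, addOrderOf_nsmul]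
  rcases (Nat.dvd_prime hq).1 (Nat.gcd_dvd_right (addOrderOf y) q) with hg | hg
  · rw [hg, Nat.div_one] at h1
    rw [h1] at hqx
    exact absurd (hg ▸ Nat.dvd_gcd hqx dvd_rfl) hq.not_dvd_one
  · rw [h1, hg, Nat.mul_div_cancel' (hg ▸ Nat.gcd_dvd_left (addOrderOf y) q)]

theorem fibre_eq (hq : q.Prime) {x y₀ : ZMod m} (hqy : (q : ZMod m) * y₀ = x) :
    Finset.univ.filter (fun y : ZMod m => (q : ZMod m) * y = x) = insert y₀
      ((Finset.univ.filter fun w : ZMod m => addOrderOf w = q).map (addLeftEmbedding y₀)) := by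
  haveI := Fact.mk hq
  ext y
  simp only [Finset.mem_filter, Finset.mem_univ, true_and, Finset.mem_insert, Finset.mem_map,
    addLeftEmbedding_apply]
  constructor
  · intro hy
    by_cases hyy : y = y₀
    · exact Or.inl hyy
    · refine Or.inr ⟨y - y₀, addOrderOf_eq_prime_iff.2 ⟨?_, sub_ne_zero.2 hyy⟩, add_sub_cancel _ _⟩
      rw [nsmul_eq_mul, mul_sub, hy, hqy, sub_self]
  · rintro (rfl | ⟨w, hw, rfl⟩)
    · exact hqy
    · rw [mul_add, hqy, ← nsmul_eq_mul, ← hw, addOrderOf_nsmul_eq_zero, add_zero]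

theorem fibre_notMem (hq : q.Prime) (y₀ : ZMod m) :
    y₀ ∉ (Finset.univ.filter fun w : ZMod m => addOrderOf w = q).map (addLeftEmbedding y₀) := by
  simp only [Finset.mem_map, addLeftEmbedding_apply, Finset.mem_filter, not_exists, not_and]
  intro w hw he
  rw [add_eq_left.1 he, addOrderOf_zero] at hw
  exact hq.one_lt.ne hw.2

theorem card_fibre (hq : q.Prime) (hqm : q ∣ m) {x y₀ : ZMod m} (hqy : (q : ZMod m) * y₀ = x) :
    (Finset.univ.filter fun y : ZMod m => (q : ZMod m) * y = x).card = q := by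
  rw [fibre_eq hq hqy, Finset.card_insert_of_notMem (fibre_notMem hq y₀), Finset.card_map,
    card_order_eq hqm, Nat.totient_prime hq, Nat.sub_add_cancel hq.one_le]

/-- The fibre of multiplication by a prime divisor over an element of order prime to it. -/
theorem sum_fibre (hq : q.Prime) (hqm : q ∣ m) {x : ZMod m} (hqx : ¬ q ∣ addOrderOf x) (f : ℕ → R) :
    ∑ y ∈ Finset.univ.filter (fun y : ZMod m => (q : ZMod m) * y = x), f (addOrderOf y) =
      f (addOrderOf x) + ((q - 1 : ℕ) : R) * f (q * addOrderOf x) := by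
  classical
  have hco : q.Coprime (addOrderOf x) := hq.coprime_iff_not_dvd.2 hqx
  obtain ⟨c, hc⟩ := exists_nsmul_eq_self_of_coprime hco
  set y₀ := c • x with hy₀
  have hqy : (q : ZMod m) * y₀ = x := by
    rw [← nsmul_eq_mul, hy₀]
    conv_rhs => rw [← hc]
    rw [← mul_nsmul', ← mul_nsmul', mul_comm]
  have hy₀o : addOrderOf y₀ = addOrderOf x := by
    refine Nat.dvd_antisymm (addOrderOf_dvd_iff_nsmul_eq_zero.2 ?_) ?_
    · rw [hy₀, ← mul_nsmul, mul_nsmul', addOrderOf_nsmul_eq_zero, smul_zero]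
    · refine addOrderOf_dvd_iff_nsmul_eq_zero.2 ?_
      rw [← hqy, ← nsmul_eq_mul, ← mul_nsmul', mul_comm, mul_nsmul', addOrderOf_nsmul_eq_zero,
        smul_zero]
  rw [fibre_eq hq hqy, Finset.sum_insert (fibre_notMem hq y₀), Finset.sum_map, hy₀o]
  congr 1
  rw [Finset.sum_congr rfl (g := fun _ => f (q * addOrderOf x)), Finset.sum_const, card_order_eq hqm,
    Nat.totient_prime hq, nsmul_eq_mul]
  intro w hw
  rw [Finset.mem_filter] at hw
  rw [addLeftEmbedding_apply, (AddCommute.all y₀ w).addOrderOf_add_eq_mul_addOrderOf_of_coprime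
    (by rw [hy₀o, hw.2]; exact hco.symm), hy₀o, hw.2, mul_comm]

end Count

namespace Sys

variable {S : Sys m}

/-- The set of orders obtained from a good one by an odd prime Frobenius. -/
theorem Good.frob (hm : 1 < m) {P : ℕ → Prop} (h : S.Good P) {q : ℕ} (hq : q.Prime) (hq2 : q ≠ 2)
    (hqm : q ∣ m) : S.Good fun d => ¬ q ∣ d ∧ ¬ (P d ↔ P (q * d)) := by
  classical
  obtain ⟨T, hT, hTP⟩ := h
  haveI := Fact.mk hq
  obtain ⟨k, hk⟩ := hq.odd_of_ne_two hq2
  let F : DihedralGroup m → ZMod q := fun z => if T z ∧ ¬ z = 1 then 1 else 0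
  have hF : S.Inv F :=
    (hT.comp₂ (inv_delta False True) fun a b => a ∧ b).comp (fun t => if t then (1 : ZMod q) else 0)
      |> fun h0 => by
        intro σ hσ z
        have h1 := h0 σ hσ z
        by_cases hz : z = 1
        · subst hz; rw [S.fix σ hσ]
        · have h4 : σ z ≠ 1 := fun h5 => hz (σ.injective (h5.trans (S.fix σ hσ).symm))
          simpa [F, hz, h4] using h1
  have hFrot : ∀ i : ZMod m, F (r i) = if ¬ addOrderOf i = 1 ∧ P (addOrderOf i) then 1 else 0 := by
    intro i
    refine if_congr ?_ rfl rfl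
    by_cases hi : i = 0
    · subst hi
      simp [addOrderOf_zero, show (r 0 : DihedralGroup m) = 1 from one_def.symm]
    · rw [AddMonoid.addOrderOf_eq_one_iff, one_def, r.injEq]
      exact ⟨fun h0 => ⟨hi, (hTP i hi).1 h0.1⟩, fun h0 => ⟨(hTP i hi).2 h0.2, hi⟩⟩
  have hadm := (adm_of_inv hF).frobenius hk
  refine ⟨fun z => pairF _ _ z ≠ (0 : ZMod q), hadm.comp fun v => v ≠ 0, fun i hi => ?_⟩
  simp only [pairF_r, coeff_pow_prime, el_coeff, hFrot]
  have hi1 : addOrderOf i ≠ 1 := fun h0 => hi (AddMonoid.addOrderOf_eq_one_iff.1 h0)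
  have hmul1 : q * addOrderOf i ≠ 1 := fun h0 => hi1 (Nat.eq_one_of_mul_eq_one_left h0)
  by_cases hqi : q ∣ addOrderOf i
  · simp only [hqi, not_true, false_and, iff_false, not_not]
    rw [Finset.sum_congr rfl (g := fun _ =>
      if ¬ q * addOrderOf i = 1 ∧ P (q * addOrderOf i) then (1 : ZMod q) else 0) fun y hy => by
        rw [order_of_mul_eq hq (Finset.mem_filter.1 hy).2 hqi], Finset.sum_const, nsmul_eq_mul]
    rcases (Finset.univ.filter fun y : ZMod m => (q : ZMod m) * y = i).eq_empty_or_nonempty with he | ⟨y₀, hy₀⟩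
    · simp [he]
    · rw [card_fibre hq hqm (Finset.mem_filter.1 hy₀).2, ZMod.natCast_self, zero_mul]
  · rw [sum_fibre hq hqm hqi (f := fun d => if ¬ d = 1 ∧ P d then (1 : ZMod q) else 0)]
    simp only [hqi, not_false_iff, true_and, hi1, hmul1, Nat.cast_sub hq.one_le, ZMod.natCast_self,
      Nat.cast_one, zero_sub, neg_mul, one_mul]
    by_cases h1 : P (addOrderOf i) <;> by_cases h2 : P (q * addOrderOf i) <;> simp [h1, h2]

end Sys

end H88.Dih
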